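import Cfsg.Agent.Lib.CycZ.Base

/-!
# The solvable case

A solvable group in the hypothesis of the induction, of even degree at least four, has degree four
and is the symmetric group.
-/

set_option autoImplicit false
set_option linter.unusedSectionVars false
set_option linter.style.haveILetI false

namespace Cfsg.Agent.CycZ

open MulAction Cfsg.Agent.Zass
open scoped Classical commutatorElement

universe u v

variable {G : Type u} [Group G] [Finite G] {Ω : Type v} [MulAction G Ω] [Fintype Ω]

theorem mem_of_four (h4 : Nat.card Ω = 4) {a b x y : Ω} (hab : a ≠ b) (hax : a ≠ x) (hay : a ≠ y)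
    (hbx : b ≠ x) (hby : b ≠ y) (hxy : x ≠ y) (z : Ω) : z = a ∨ z = b ∨ z = x ∨ z = y := by
  have hc : ({a, b, x, y} : Finset Ω).card = 4 := by simp [*]
  have hu := Finset.eq_univ_of_card ({a, b, x, y} : Finset Ω)
    (by rw [hc, ← Nat.card_eq_fintype_card, h4])
  have := (Finset.ext_iff.mp hu z).mpr (Finset.mem_univ z)
  simpa using this

/-- A solvable group in the hypothesis of the induction, of even degree `≥ 4`, is `S₄`. -/
theorem Hyp.affine (h : Hyp G Ω) [Group.IsSolvable G] (h4 : 4 ≤ Nat.card Ω)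
    (hn : Even (Nat.card Ω)) : Nat.card Ω = 4 ∧ Dih G Ω := by
  haveI : Fact (Nat.Prime 2) := ⟨Nat.prime_two⟩
  haveI := h.faith
  haveI : Nontrivial Ω := by
    rw [← Fintype.one_lt_card_iff_nontrivial, ← Nat.card_eq_fintype_card]
    omega
  obtain ⟨a, b, hab⟩ := exists_pair_ne Ω
  -- an abelian normal subgroup
  have hex : ∃ k, derivedSeries G k = ⊥ := Group.IsSolvable.solvable
  have hk0 : Nat.find hex ≠ 0 := fun e => by
    have := Nat.find_spec hex
    rw [e, derivedSeries_zero] at this
    obtain ⟨g, g1, -⟩ := h.move hab (Ne.symm hab)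
    have hg : g = 1 := (Subgroup.eq_bot_iff_forall _).mp this g (Subgroup.mem_top g)
    rw [hg, one_smul] at g1
    exact hab g1
  set E := derivedSeries G (Nat.find hex - 1)
  have hE : E ≠ ⊥ := Nat.find_min hex (by omega)
  haveI hEn : E.Normal := derivedSeries_normal G _
  have hcomm : ∀ x y : G, x ∈ E → y ∈ E → x * y = y * x := fun x y hx hy => by
    have hspec := Nat.find_spec hex
    rw [show Nat.find hex = Nat.find hex - 1 + 1 by omega, derivedSeries_succ] at hspec
    have hmem : ⁅x, y⁆ ∈ (⊥ : Subgroup G) := hspec ▸ Subgroup.commutator_mem_commutator hx hy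
    exact commutatorElement_eq_one_iff_mul_comm.mp (Subgroup.mem_bot.mp hmem)
  -- regularity
  obtain ⟨e0, he0, he0'⟩ := E.bot_or_exists_ne_one.resolve_left hE
  obtain ⟨x0, hx0⟩ : ∃ x : Ω, e0 • x ≠ x := by
    by_contra hc
    push Not at hc
    exact he0' (eq_of_smul_eq_smul fun x : Ω => (hc x).trans (one_smul G x).symm)
  have htrans : ∀ c d : Ω, ∃ e ∈ E, e • c = d := fun c d => by
    by_cases hcd : c = d
    · exact ⟨1, E.one_mem, by rw [one_smul, hcd]⟩
    obtain ⟨g, g1, g2⟩ := h.move (Ne.symm hx0) hcd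
    exact ⟨g * e0 * g⁻¹, hEn.conj_mem _ he0 g,
      by rw [← g1, mul_smul, mul_smul, inv_smul_smul, g2]⟩
  have hreg : ∀ e ∈ E, ∀ c : Ω, e • c = c → e = 1 := fun e he c hc => by
    refine eq_of_smul_eq_smul fun d : Ω => ?_
    obtain ⟨e', he', hd⟩ := htrans c d
    rw [one_smul, ← hd, ← mul_smul, hcomm e e' he he', mul_smul, hc]
  have hEcard : Nat.card E = Nat.card Ω := by
    refine Nat.card_eq_of_bijective (fun e : E => (e : G) • a) ⟨fun x y hxy => ?_, fun d => ?_⟩
    · refine inv_mul_eq_one.mp (Subtype.ext (hreg _ (x⁻¹ * y).2 a ?_))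
      have e' : (x : G) • a = (y : G) • a := hxy
      rw [Subgroup.coe_mul, Subgroup.coe_inv, mul_smul, ← e', inv_smul_smul]
    · obtain ⟨e, he, hd⟩ := htrans a d
      exact ⟨⟨e, he⟩, hd⟩
  -- exponent two
  have hsq : ∀ x : E, x * x = 1 := by
    obtain ⟨e1, he1⟩ := exists_prime_orderOf_dvd_card' (G := E) 2 (hEcard ▸ hn.two_dvd)
    intro x
    by_cases hx : x = 1
    · rw [hx, one_mul]
    have hmv : ∀ y : E, y ≠ 1 → (y : G) • a ≠ a := fun y hy e => hy (Subtype.ext (hreg _ y.2 a e))
    obtain ⟨g, g1, g2⟩ := h.move (Ne.symm (hmv e1 (fun e => by rw [e, orderOf_one] at he1; omega)))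
      (Ne.symm (hmv x hx))
    have hgx : g * (e1 : G) * g⁻¹ = x := by
      refine inv_mul_eq_one.mp (hreg _ (E.mul_mem (E.inv_mem (hEn.conj_mem _ e1.2 g)) x.2) a ?_)
      rw [mul_smul, inv_smul_eq_iff, mul_smul, mul_smul,
        show g⁻¹ • a = a from inv_smul_eq_iff.mpr g1.symm, g2]
    have h1 : (e1 : G) * e1 = 1 := by
      rw [← pow_two, ← Subgroup.coe_pow, ← he1, pow_orderOf_eq_one, OneMemClass.coe_one]
    refine Subtype.ext ?_
    rw [Subgroup.coe_mul, OneMemClass.coe_one, ← hgx,
      show g * (e1 : G) * g⁻¹ * (g * e1 * g⁻¹) = g * (e1 * e1) * g⁻¹ by group, h1, mul_one,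
      mul_inv_cancel]
  have hsqG : ∀ x ∈ E, x * x = 1 := fun x hx => congrArg Subtype.val (hsq ⟨x, hx⟩)
  have hEp : IsPGroup 2 E := fun x => ⟨1, by rw [pow_one, pow_two, hsq]⟩
  obtain ⟨e, he⟩ := IsPGroup.iff_card.mp hEp
  rw [hEcard] at he
  have he2 : 2 ≤ e := by
    by_contra hlt
    have := Nat.pow_le_pow_right (show 0 < 2 by omega) (show e ≤ 1 by omega)
    omega
  -- the semiregular element
  obtain ⟨α, hα, hαfree⟩ := h.semi
  rw [he, Nat.prime_two.factorization_pow, Finsupp.single_eq_same] at hα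
  obtain ⟨v, hv, hva⟩ := htrans a (α • a)
  set u := v⁻¹ * α with hudef
  have hua : u • a = a := by rw [hudef, mul_smul, ← hva, inv_smul_smul]
  have hu2 : u ^ 2 ^ e = 1 := by
    have hq : ((u ^ 2 ^ e : G) : G ⧸ E) = 1 := by
      rw [QuotientGroup.mk_pow, hudef, QuotientGroup.mk_mul, QuotientGroup.mk_inv,
        (QuotientGroup.eq_one_iff v).mpr hv, inv_one, one_mul, ← QuotientGroup.mk_pow, ← hα,
        pow_orderOf_eq_one, QuotientGroup.mk_one]
    exact hreg _ ((QuotientGroup.eq_one_iff _).mp hq) a (Subgroup.pow_mem (stabilizer G a) hua _)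
  let D : E → E := fun x => x * MulAut.conjNormal u x
  have hD1 : D 1 = 1 := by simp [D]
  have hswapE : ∀ x y : E, x * y = y * x := fun x y => Subtype.ext (hcomm _ _ x.2 y.2)
  have hDmul : ∀ x y : E, D (x * y) = D x * D y := fun x y => by
    show x * y * MulAut.conjNormal u (x * y) = x * MulAut.conjNormal u x * (y * MulAut.conjNormal u y)
    rw [map_mul, mul_assoc x y, ← mul_assoc y, hswapE y (MulAut.conjNormal u x)]
    group
  have hDpow : ∀ (i : ℕ) (x : E), D^[2 ^ i] x = x * MulAut.conjNormal (u ^ 2 ^ i) x := by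
    intro i
    induction i with
    | zero => intro x; rw [pow_zero, Function.iterate_one, pow_one]
    | succ i ih =>
      intro x
      have e2 : MulAut.conjNormal (u ^ 2 ^ (i + 1)) x =
          MulAut.conjNormal (u ^ 2 ^ i) (MulAut.conjNormal (u ^ 2 ^ i) x) := by
        rw [pow_succ, pow_mul, pow_two, map_mul, MulAut.mul_apply]
      rw [show 2 ^ (i + 1) = 2 ^ i + 2 ^ i by ring, Function.iterate_add_apply, ih, ih, map_mul,
        show 2 ^ i + 2 ^ i = 2 ^ (i + 1) by ring, e2, mul_assoc, ← mul_assoc (MulAut.conjNormal _ x),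
        hsq, one_mul]
  have hnil : ∀ x, D^[2 ^ e] x = 1 := fun x => by rw [hDpow, hu2, map_one, MulAut.one_apply, hsq]
  let K : ℕ → Subgroup E := fun k =>
    { carrier := {x | D^[k] x = 1}
      one_mem' := Function.iterate_fixed hD1 k
      mul_mem' := fun {x y} (hx : D^[k] x = 1) (hy : D^[k] y = 1) => by
        show (⇑(MonoidHom.mk' D hDmul))^[k] (x * y) = 1
        rw [iterate_map_mul (MonoidHom.mk' D hDmul) k x y]
        show D^[k] x * D^[k] y = 1
        rw [hx, hy, one_mul]
      inv_mem' := fun {x} (hx : D^[k] x = 1) => by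
        show D^[k] x⁻¹ = 1
        rw [show x⁻¹ = x from inv_eq_of_mul_eq_one_right (hsq x)]
        exact hx }
  have hKe : ∀ k, K k = ⊤ ∨ 2 ^ k ≤ Nat.card (K k) := by
    intro k
    induction k with
    | zero => exact Or.inr (by rw [pow_zero]; exact Nat.card_pos)
    | succ k ih =>
      have hle : K k ≤ K (k + 1) := fun x (hx : D^[k] x = 1) => by
        show D^[k + 1] x = 1
        rw [Function.iterate_succ_apply', hx, hD1]
      rcases ih with ih | ih
      · exact Or.inl (top_le_iff.mp (ih ▸ hle))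
      by_cases heq : K (k + 1) ≤ K k
      · left
        have hstab : ∀ j, ∀ x, D^[k + j] x = 1 → D^[k] x = 1 := by
          intro j
          induction j with
          | zero => exact fun x hx => hx
          | succ j ihj =>
            intro x hx
            rw [← add_assoc, Function.iterate_succ_apply] at hx
            exact heq (show D^[k + 1] x = 1 by rw [Function.iterate_succ_apply]; exact ihj _ hx)
        refine (Subgroup.eq_top_iff' _).mpr fun x => hle (hstab (2 ^ e) x ?_)
        rw [Function.iterate_add_apply, hnil, Function.iterate_fixed hD1]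
      · right
        obtain ⟨d, hd⟩ := Subgroup.card_dvd_of_le hle
        have hd2 : 2 ≤ d := by
          by_contra hlt
          refine heq (Subgroup.eq_of_le_of_card_ge hle ?_).ge
          rw [hd]
          exact (Nat.mul_le_mul_left _ (show d ≤ 1 by omega)).trans (mul_one _).le
        rw [hd, pow_succ]
        exact Nat.mul_le_mul ih hd2
  have hDe : ∀ k, e ≤ k → ∀ x, D^[k] x = 1 := fun k hk x => by
    have hx : x ∈ K e := by
      rcases hKe e with h1 | h1
      · rw [h1]; exact Subgroup.mem_top x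
      · rw [Subgroup.eq_top_of_card_eq (K e)
          (le_antisymm (Subgroup.card_le_card_group _) (by rw [hEcard, he]; exact h1))]
        exact Subgroup.mem_top x
    rw [← Nat.sub_add_cancel hk, Function.iterate_add_apply, show D^[e] x = 1 from hx,
      Function.iterate_fixed hD1]
  -- powers of `α`
  have hαpow : ∀ i : ℕ, α ^ 2 ^ i = ((D^[2 ^ i - 1] ⟨v, hv⟩ : E) : G) * u ^ 2 ^ i := by
    intro i
    induction i with
    | zero => simp [hudef]
    | succ i ih =>
      have hi := Nat.one_le_two_pow (n := i)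
      have hi' : 2 ^ (i + 1) - 1 = 2 ^ i + (2 ^ i - 1) := by rw [pow_succ]; omega
      rw [pow_succ 2 i, pow_mul α, pow_mul u, pow_two (α ^ _), ih, ← pow_succ, hi',
        Function.iterate_add_apply, hDpow, Subgroup.coe_mul, MulAut.conjNormal_apply]
      group
  have hi : ∀ i, e + 1 ≤ 2 ^ i → e ≤ i := fun i hi => by
    have hfix : u ^ 2 ^ i = 1 := by
      refine eq_of_smul_eq_smul fun d : Ω => ?_
      obtain ⟨x, hx, hd⟩ := htrans a d
      have e1 := hDpow i ⟨x, hx⟩
      rw [hDe _ (by omega)] at e1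
      have e2 : x * (u ^ 2 ^ i * x * (u ^ 2 ^ i)⁻¹) = 1 := by
        have := (congrArg Subtype.val e1).symm
        rwa [Subgroup.coe_mul, MulAut.conjNormal_apply] at this
      have e3 : u ^ 2 ^ i * x * (u ^ 2 ^ i)⁻¹ = x :=
        (inv_eq_of_mul_eq_one_right e2).symm.trans (inv_eq_of_mul_eq_one_right (hsqG x hx))
      rw [one_smul, ← hd, ← mul_smul, mul_inv_eq_iff_eq_mul.mp e3, mul_smul]
      exact congrArg _ (mem_stabilizer_iff.mp (Subgroup.pow_mem (stabilizer G a) hua _))
    have hα1 : α ^ 2 ^ i = 1 := by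
      rw [hαpow, hDe _ (by omega), hfix, OneMemClass.coe_one, one_mul]
    have := orderOf_dvd_of_pow_eq_one hα1
    rw [hα] at this
    exact (Nat.pow_dvd_pow_iff_le_right (by omega)).mp this
  have hN4 : Nat.card Ω = 4 := by
    by_contra hne
    have he3 : 3 ≤ e := by
      by_contra hlt
      rw [show e = 2 by omega] at he
      omega
    have := hi (e - 1) ?_
    · omega
    · have hpow : ∀ j : ℕ, j + 4 ≤ 2 ^ (j + 2) := by
        intro j
        induction j with
        | zero => norm_num
        | succ j ih => rw [pow_succ]; omega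
      have h1 := hpow (e - 3)
      rw [show e - 3 + 2 = e - 1 by omega] at h1
      omega
  -- degree four
  have hG := card_two_trans h.two hab
  rw [hN4] at hG
  have hinj : Function.Injective (MulAction.toPermHom G Ω) := MulAction.toPerm_injective
  have h24 : Nat.card (Equiv.Perm Ω) = 24 := by
    rw [Nat.card_perm, hN4]
    rfl
  have hle24 := Nat.card_le_card_of_injective _ hinj
  have hT2 : 1 < Nat.card (Zass.two (G := G) a b) := by
    by_contra hlt
    have hT1 : Nat.card (Zass.two (G := G) a b) = 1 := by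
      have := Nat.card_pos (α := Zass.two (G := G) a b)
      omega
    have hP : IsPGroup 2 (E ⊔ Subgroup.zpowers α : Subgroup G) :=
      IsPGroup.to_sup_of_normal_left hEp (IsPGroup.of_card (by rw [Nat.card_zpowers, hα]))
    obtain ⟨j, hj⟩ := IsPGroup.iff_card.mp hP
    have hj2 : j ≤ 2 := by
      by_contra hj3
      have h1 : 2 ^ 3 ∣ Nat.card G :=
        (pow_dvd_pow 2 (show 3 ≤ j by omega)).trans (hj ▸ Subgroup.card_subgroup_dvd_card _)
      rw [hG, hT1] at h1
      norm_num at h1
    have hEP : E = E ⊔ Subgroup.zpowers α := by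
      refine Subgroup.eq_of_le_of_card_ge le_sup_left ?_
      rw [hj, hEcard, hN4]
      exact Nat.pow_le_pow_right (by omega) hj2
    have hαE : α ∈ E := hEP ▸ Subgroup.mem_sup_right (Subgroup.mem_zpowers α)
    have h1 : orderOf α ≤ 2 :=
      orderOf_le_of_pow_eq_one (by omega) (by rw [pow_two]; exact hsqG α hαE)
    rw [hα] at h1
    have : 2 ^ 2 ≤ 2 ^ e := Nat.pow_le_pow_right (by omega) he2
    omega
  have hsurj : Function.Surjective (MulAction.toPermHom G Ω) :=
    ((Nat.bijective_iff_injective_and_card _).mpr ⟨hinj, by omega⟩).2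
  refine ⟨hN4, ⟨h4, ?_, ?_, fun hab => h.cyclic_two hab, ?_⟩⟩
  · intro a b c p q r hab hac hbc hpq hpr hqr
    obtain ⟨g, g1, g2⟩ := h.move hab hpq
    obtain ⟨k, hk⟩ := hsurj (Equiv.swap (g • c) r)
    have hkk : ∀ x : Ω, k • x = Equiv.swap (g • c) r x := fun x => by rw [← hk]; rfl
    have hgp : p ≠ g • c := fun e => hac ((smul_left_cancel_iff g).mp (g1.trans e))
    have hgq : q ≠ g • c := fun e => hbc ((smul_left_cancel_iff g).mp (g2.trans e))
    exact ⟨k * g, by rw [mul_smul, g1, hkk, Equiv.swap_apply_of_ne_of_ne hgp hpr],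
      by rw [mul_smul, g2, hkk, Equiv.swap_apply_of_ne_of_ne hgq hqr],
      by rw [mul_smul, hkk, Equiv.swap_apply_left]⟩
  · intro a b c hab hac hbc g ga gb gc
    refine eq_of_smul_eq_smul fun d : Ω => ?_
    rw [one_smul]
    by_cases hda : d = a
    · rw [hda, ga]
    by_cases hdb : d = b
    · rw [hdb, gb]
    by_cases hdc : d = c
    · rw [hdc, gc]
    rcases mem_of_four hN4 hab hac (Ne.symm hda) hbc (Ne.symm hdb) (Ne.symm hdc) (g • d) with
      e | e | e | e
    · exact absurd ((smul_left_cancel_iff g).mp (e.trans ga.symm)) hda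
    · exact absurd ((smul_left_cancel_iff g).mp (e.trans gb.symm)) hdb
    · exact absurd ((smul_left_cancel_iff g).mp (e.trans gc.symm)) hdc
    · exact e
  · intro a b hab g hga hgb
    refine eq_of_smul_eq_smul fun d : Ω => ?_
    rw [one_smul, mul_smul]
    by_cases hda : d = a
    · rw [hda, hga, hgb]
    by_cases hdb : d = b
    · rw [hdb, hgb, hga]
    by_cases hgd : g • d = d
    · rw [hgd, hgd]
    have h1 : g • d ≠ a := fun e => hdb ((smul_left_cancel_iff g).mp (e.trans hgb.symm))
    have h2 : g • d ≠ b := fun e => hda ((smul_left_cancel_iff g).mp (e.trans hga.symm))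
    rcases mem_of_four hN4 hab (Ne.symm hda) (Ne.symm h1) (Ne.symm hdb) (Ne.symm h2) (Ne.symm hgd)
      (g • g • d) with e | e | e | e
    · exact absurd ((smul_left_cancel_iff g).mp (e.trans hgb.symm)) h2
    · exact absurd ((smul_left_cancel_iff g).mp (e.trans hga.symm)) h1
    · exact e
    · exact absurd ((smul_left_cancel_iff g).mp e) hgd

end Cfsg.Agent.CycZ
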