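import Cfsg.Agent.Lib.CycZ.Defs
import Cfsg.Agent.Lib.FiniteGroup.PermSmall
import Mathlib.GroupTheory.IndexNormal
import Mathlib.FieldTheory.Finite.Basic
import Mathlib.Data.Nat.Factorization.PrimePow

/-!
# The case of two fixed points

If an involution with a fixed point fixes exactly two points, the group behaves like `PGL(2, p)` on
the projective line.
-/

set_option autoImplicit false
set_option linter.unusedSectionVars false
set_option linter.style.haveILetI false

namespace Cfsg.Agent.CycZ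

open MulAction Cfsg.Agent.Zass
open scoped Classical

universe u v

/-- Units of `ZMod (u * v)` have small order. -/
theorem orderOf_units_mul {u v : ℕ} (hc : Nat.Coprime u v) (hu : 2 < u) (hv : 2 < v)
    (x : (ZMod (u * v))ˣ) : 2 * orderOf x + 1 < u * v := by
  haveI : NeZero u := ⟨by omega⟩
  haveI : NeZero v := ⟨by omega⟩
  let e : (ZMod (u * v))ˣ ≃* (ZMod u)ˣ × (ZMod v)ˣ :=
    (Units.mapEquiv (ZMod.chineseRemainder hc).toMulEquiv).trans MulEquiv.prodUnits
  obtain ⟨a, ha⟩ := Nat.totient_even hu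
  obtain ⟨b, hb⟩ := Nat.totient_even hv
  have hpow : x ^ (2 * a * b) = 1 := by
    apply e.injective
    rw [map_pow, map_one]
    refine Prod.ext ?_ ?_
    · rw [Prod.pow_fst, Prod.fst_one, show 2 * a * b = u.totient * b by rw [ha]; ring, pow_mul,
        ZMod.pow_totient, one_pow]
    · rw [Prod.pow_snd, Prod.snd_one, show 2 * a * b = v.totient * a by rw [hb]; ring, pow_mul,
        ZMod.pow_totient, one_pow]
  have ha0 : 0 < a := by
    have := Nat.totient_pos.mpr (by omega : 0 < u)
    omega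
  have hb0 : 0 < b := by
    have := Nat.totient_pos.mpr (by omega : 0 < v)
    omega
  have hle : orderOf x ≤ 2 * a * b := Nat.le_of_dvd (by positivity) (orderOf_dvd_of_pow_eq_one hpow)
  have hua := Nat.totient_lt u (by omega)
  have hvb := Nat.totient_lt v (by omega)
  nlinarith

/-- If `ZMod m` has a unit of order at least `(m - 1) / 2`, then `m` is prime or a prime power. -/
theorem isPrimePow_of_unit {m : ℕ} (hm : Odd m) (h1 : 1 < m) (x : (ZMod m)ˣ)
    (hx : m ≤ 2 * orderOf x + 1) : IsPrimePow m := by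
  by_contra hnp
  set p := m.minFac
  have hp : p.Prime := Nat.minFac_prime (by omega)
  have hk : 0 < m.factorization p :=
    hp.factorization_pos_of_dvd (by omega) m.minFac_dvd
  have huv : p ^ m.factorization p * (m / p ^ m.factorization p) = m :=
    Nat.ordProj_mul_ordCompl_eq_self m p
  set u := p ^ m.factorization p with hudef
  set v := m / u with hvdef
  have hc : Nat.Coprime u v := Nat.Coprime.pow_left _ (Nat.coprime_ordCompl hp (by omega))
  have hu1 : 1 < u := Nat.one_lt_pow hk.ne' hp.one_lt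
  have hv1 : v ≠ 1 := fun e => hnp ⟨p, m.factorization p, hp.prime, hk, by rw [e, mul_one] at huv; exact huv⟩
  have hv0 : v ≠ 0 := fun e => by rw [e, mul_zero] at huv; omega
  have huo : Odd u := (Nat.odd_mul.mp (huv.symm ▸ hm)).1
  have hvo : Odd v := (Nat.odd_mul.mp (huv.symm ▸ hm)).2
  have hu2 : 2 < u := by obtain ⟨k, hk⟩ := huo; omega
  have hv2 : 2 < v := by obtain ⟨k, hk⟩ := hvo; omega
  clear_value u v
  subst huv
  have := orderOf_units_mul hc hu2 hv2 x
  omega

variable {G : Type u} [Group G] [Finite G] {Ω : Type v} [MulAction G Ω] [Fintype Ω]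

/-- A group acting faithfully on at most four points is solvable. -/
theorem solvable_of_small [FaithfulSMul G Ω] (h4 : Nat.card Ω ≤ 4) : Group.IsSolvable G := by
  haveI := PermSmall.isSolvable_perm_of_card_le_four (α := Ω) h4
  exact Group.isSolvable_of_isSolvable_injective
    (f := MulAction.toPermHom G Ω) MulAction.toPerm_injective

/-- An involution without fixed points interchanging two given points. -/
theorem Hyp.exists_swap (h : Hyp G Ω) (hn : Even (Nat.card Ω)) {a b : Ω} (hab : a ≠ b) :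
    ∃ z : G, orderOf z = 2 ∧ z • a = b ∧ z • b = a ∧ ∀ x : Ω, z • x ≠ x := by
  haveI : Fact (Nat.Prime 2) := ⟨Nat.prime_two⟩
  have h0 : 0 < Nat.card Ω := Nat.card_pos_iff.mpr ⟨⟨a⟩, inferInstance⟩
  obtain ⟨A, -, hA, hfree⟩ := h.semi_card
  obtain ⟨x, hx⟩ := exists_prime_orderOf_dvd_card' (G := A) 2
    (hA ▸ dvd_pow_self 2 (Nat.prime_two.factorization_pos_of_dvd h0.ne' hn.two_dvd).ne')
  have hz2 : orderOf (x : G) = 2 := by rw [Subgroup.orderOf_coe, hx]
  have hne : ∀ c : Ω, (x : G) • c ≠ c := fun c e => by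
    rw [hfree _ x.2 c e, orderOf_one] at hz2
    omega
  obtain ⟨g, g1, g2⟩ := h.move (Ne.symm (hne a)) hab
  refine ⟨g * x * g⁻¹, by rw [show g * x * g⁻¹ = MulAut.conj g (x : G) from rfl,
    MulEquiv.orderOf_eq, hz2], ?_, ?_, fun c e => hne (g⁻¹ • c) ?_⟩
  · rw [mul_smul, mul_smul, show g⁻¹ • a = a from inv_smul_eq_iff.mpr g1.symm, g2]
  · rw [mul_smul, mul_smul, show g⁻¹ • b = (x : G) • a from inv_smul_eq_iff.mpr g2.symm,
      ← mul_smul (x : G) (x : G) a, ← pow_two, ← hz2, pow_orderOf_eq_one, one_smul, g1]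
  · rw [mul_smul, mul_smul] at e
    exact eq_inv_smul_iff.mpr e

/-- With two fixed points: the fixed-point-free core of a stabiliser has prime order, and the group
is `PGL(2, p)`-like at the pair `a`, `b`. -/
theorem Hyp.base_pair (h : Hyp G Ω) (hns : ¬ Group.IsSolvable G) (hn : Even (Nat.card Ω))
    {a b : Ω} (hab : a ≠ b) {t : G} (ht : t ∈ Zass.two (G := G) a b) (ht2 : orderOf t = 2)
    (hf : fx Ω t = 2) :
    (Nat.card Ω - 1).Prime ∧ 5 ≤ Nat.card Ω - 1 ∧
      Nat.card (Zass.two (G := G) a b) = Nat.card Ω - 2 ∧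
      (∀ g : G, g • a = b → g • b = a → g * g = 1) ∧
      ∀ c : Ω, c ≠ a → c ≠ b → ∀ g ∈ Zass.two (G := G) a b, g • c = c → g = 1 := by
  haveI := h.faith
  haveI := h.zgp a
  have h6 : 5 ≤ Nat.card Ω := by
    by_contra h4
    exact hns (solvable_of_small (Ω := Ω) (by omega))
  have hcount := h.count hn hab ht ht2
  rw [hf] at hcount
  set N := Nat.card Ω
  set s1 := Nat.card {s : G // Fixd Ω s ∧ s • a = b}
  set T := Zass.two (G := G) a b
  set M := stabilizer G a
  set T' : Subgroup M := T.subgroupOf M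
  have hT' : Nat.card T' = Nat.card T := Nat.card_congr (Subgroup.subgroupOfEquivOfLe inf_le_left).toEquiv
  obtain ⟨F, hF, hFc, -, hFF⟩ := exists_fitting M
  have hFT : ∀ x ∈ F, x ∈ T' → x = 1 := fun x hx hxT => h.free hab hx (mem_two.mp hxT).2
  -- the conjugation action on `F`
  set φ : M →* MulAut F := MulAut.conjNormal
  have hker : φ.ker ≤ F := fun x hx => hFF <| Subgroup.mem_centralizer_iff.mpr fun y hy => by
    have e := congrArg Subtype.val (DFunLike.congr_fun (MonoidHom.mem_ker.mp hx) ⟨y, hy⟩)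
    rw [MulAut.conjNormal_apply, MulAut.one_apply] at e
    exact (mul_inv_eq_iff_eq_mul.mp e).symm
  have hidx : F.index ≤ Nat.totient (Nat.card F) := by
    rw [← IsCyclic.card_mulAut F]
    refine le_trans (Nat.le_of_dvd (Nat.pos_of_ne_zero Subgroup.index_ne_zero_of_finite)
      (Subgroup.index_dvd_of_le hker)) ?_
    rw [Subgroup.index_ker]
    exact Subgroup.card_le_card_group _
  have hdvd : Nat.card T' ∣ F.index := by
    refine Subgroup.card_dvd_of_injective ((QuotientGroup.mk' F).comp T'.subtype) ?_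
    rw [← MonoidHom.ker_eq_bot_iff]
    refine (Subgroup.eq_bot_iff_forall _).mpr fun x hx => Subtype.ext (hFT x.1 ?_ x.2)
    exact (QuotientGroup.eq_one_iff (x : M)).mp hx
  obtain ⟨k, hk⟩ := hdvd
  have hM := card_stab_two_trans h.two hab
  rw [← Subgroup.card_mul_index F, hk, hT'] at hM
  have hkN : Nat.card F * k = N - 1 := by
    refine Nat.eq_of_mul_eq_mul_right (Nat.card_pos (α := T)) ?_
    rw [← hM]
    ring
  rw [hk, hT'] at hidx
  -- the fixed-point-free involution at `a`, `b`
  obtain ⟨z, hz2, hza, hzb, hzfree⟩ := h.exists_swap hn hab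
  have hzz : z * z = 1 := by rw [← pow_two, ← hz2, pow_orderOf_eq_one]
  have hswap : ∀ s : G, Fixd Ω s → s • a = b → z * s ∈ T := fun s hs hsa => by
    have hss : s * s = 1 := by rw [← pow_two, ← hs.1, pow_orderOf_eq_one]
    have hsb : s • b = a := by rw [← hsa, ← mul_smul, hss, one_smul]
    rw [mem_two, mul_smul, mul_smul, hsa, hsb, hzb, hza]
    exact ⟨rfl, rfl⟩
  let ι : {s : G // Fixd Ω s ∧ s • a = b} → {x : T // x ≠ 1} := fun s =>
    ⟨⟨z * s.1, hswap _ s.2.1 s.2.2⟩, fun e => by
      have e' : z * s.1 = 1 := congrArg Subtype.val e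
      have : s.1 = z := by rw [← one_mul s.1, ← hzz, mul_assoc, e', mul_one]
      obtain ⟨-, x, hx⟩ := s.2.1
      exact hzfree x (this ▸ hx)⟩
  have hι : Function.Injective ι := fun s s' e =>
    Subtype.ext (mul_left_cancel (congrArg (fun x : {x : T // x ≠ 1} => ((x.1 : T) : G)) e))
  have hs1 : s1 + 1 ≤ Nat.card T := by
    letI : Fintype T := Fintype.ofFinite T
    have := Nat.card_le_card_of_injective ι hι
    rw [Nat.card_eq_fintype_card (α := {x : T // x ≠ 1})] at this
    rw [Fintype.card_subtype_compl, Fintype.card_subtype_eq, ← Nat.card_eq_fintype_card] at this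
    have := Nat.card_pos (α := T)
    omega
  have hN1 : N = 2 + 2 * s1 := by omega
  have hF1 : 1 < Nat.card F := by
    by_contra hle
    have := Nat.card_pos (α := F)
    have e : Nat.card F = 1 := by omega
    rw [e, Nat.totient_one] at hidx
    rw [e, one_mul] at hkN
    have := Nat.le_mul_of_pos_left k (Nat.card_pos (α := T))
    omega
  have htot := Nat.totient_lt _ hF1
  have hodd : Odd (N - 1) := Nat.Even.sub_odd (by omega) hn odd_one
  have hkodd : Odd k := (Nat.odd_mul.mp (hkN ▸ hodd)).2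
  have hk1 : k = 1 := by
    by_contra hne
    obtain ⟨j, rfl⟩ := hkodd
    have : 3 ≤ 2 * j + 1 := by omega
    have h1 : 3 * Nat.card F ≤ N - 1 := by rw [← hkN]; nlinarith
    have h2 : Nat.card T * 3 ≤ Nat.card T * (2 * j + 1) := Nat.mul_le_mul_left _ this
    omega
  rw [hk1, mul_one] at hkN hidx
  have hFodd : Odd (Nat.card F) := hkN ▸ hodd
  -- the order is prime
  haveI := h.cyclic_two hab
  haveI : IsCyclic T' := isCyclic_of_surjective
    (Subgroup.subgroupOfEquivOfLe (show T ≤ M from inf_le_left)).symm.toMonoidHom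
    (Subgroup.subgroupOfEquivOfLe (show T ≤ M from inf_le_left)).symm.surjective
  obtain ⟨g, hg⟩ := IsCyclic.exists_ofOrder_eq_natCard (α := T')
  let ψ : T' →* (ZMod (Nat.card F))ˣ :=
    (IsCyclic.mulAutMulEquiv F).toMonoidHom.comp (φ.comp T'.subtype)
  have hψ : Function.Injective ψ := by
    rw [← MonoidHom.ker_eq_bot_iff]
    refine (Subgroup.eq_bot_iff_forall _).mpr fun x hx => Subtype.ext (hFT x.1 (hker ?_) x.2)
    rw [MonoidHom.mem_ker] at hx ⊢
    exact (IsCyclic.mulAutMulEquiv F).injective (hx.trans (map_one _).symm)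
  have hord : orderOf (ψ g) = Nat.card T := by rw [orderOf_injective ψ hψ, hg, hT']
  have hpp := isPrimePow_of_unit hFodd hF1 (ψ g) (by rw [hord]; omega)
  obtain ⟨p, e, hp, he, hpe⟩ := hpp
  rw [← Nat.prime_iff] at hp
  haveI : Fact p.Prime := ⟨hp⟩
  have hpT : ¬ p ∣ Nat.card T := by
    rw [← hT']
    intro hd
    obtain ⟨x, hx⟩ := exists_prime_orderOf_dvd_card' p hd
    have hP : IsPGroup p (F ⊔ Subgroup.zpowers (x : M) : Subgroup M) :=
      IsPGroup.to_sup_of_normal_left (IsPGroup.of_card hpe.symm)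
        (IsPGroup.of_card (n := 1) (by rw [Nat.card_zpowers, Subgroup.orderOf_coe, hx, pow_one]))
    haveI := IsPGroup.isCyclic_of_isZGroup hP
    have hxF : (x : M) ∈ F := hFF <| Subgroup.mem_centralizer_iff.mpr fun y hy =>
      congrArg Subtype.val (mul_comm'
        (⟨y, Subgroup.mem_sup_left hy⟩ : (F ⊔ Subgroup.zpowers (x : M) : Subgroup M))
        ⟨x, Subgroup.mem_sup_right (Subgroup.mem_zpowers _)⟩)
    have hx1 := hFT _ hxF x.2
    rw [← Subgroup.orderOf_coe, hx1, orderOf_one] at hx
    exact hp.ne_one hx.symm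
  have hpm : Nat.card T ∣ p - 1 := by
    have hd : Nat.card T ∣ Nat.totient (Nat.card F) := by
      rw [← hord, ← ZMod.card_units_eq_totient]
      exact orderOf_dvd_card
    rw [← hpe, Nat.totient_prime_pow hp he] at hd
    exact ((Nat.Prime.coprime_iff_not_dvd hp).mpr hpT).symm.pow_right _ |>.dvd_of_dvd_mul_left hd
  have hp2 := hp.two_le
  have hTle : Nat.card T ≤ p - 1 := Nat.le_of_dvd (by omega) hpm
  have he1 : e = 1 := by
    by_contra hne
    have h2 : p ^ 2 ≤ Nat.card F := hpe ▸ Nat.pow_le_pow_right hp.pos (by omega)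
    have h3 : 2 * p ≤ p ^ 2 := by nlinarith
    omega
  rw [he1, pow_one] at hpe
  have hTeq : Nat.card T = p - 1 := by
    obtain ⟨c, hc⟩ := hpm
    rcases c with _ | _ | c
    · omega
    · omega
    · have : Nat.card T * 2 ≤ Nat.card T * (c + 1 + 1) := Nat.mul_le_mul_left _ (by omega)
      omega
  have hprime : (N - 1).Prime := by rw [← hkN, ← hpe]; exact hp
  refine ⟨hprime, ?_, by omega, ?_, ?_⟩
  · have h3 : Odd (N - 1) := hodd
    obtain ⟨j, hj⟩ := h3
    omega
  · -- every element interchanging `a` and `b` is an involution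
    haveI : IsMulCommutative T := inferInstance
    let J : Subgroup T :=
      { carrier := {x | z * (x : G) * z = (x : G)⁻¹}
        one_mem' := by
          show z * ((1 : T) : G) * z = ((1 : T) : G)⁻¹
          rw [OneMemClass.coe_one, mul_one, hzz, inv_one]
        mul_mem' := fun {x y} (hx : z * (x : G) * z = _) (hy : z * (y : G) * z = _) => by
          show z * ((x * y : T) : G) * z = ((x * y : T) : G)⁻¹
          have hxy : ((x * y : T) : G) = (y : G) * x := congrArg Subtype.val (mul_comm' x y)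
          conv_rhs => rw [hxy, mul_inv_rev, ← hx, ← hy]
          rw [Subgroup.coe_mul, show z * (x : G) * z * (z * y * z) = z * x * (z * z) * y * z by group,
            hzz]
          group
        inv_mem' := fun {x} (hx : z * (x : G) * z = _) => by
          show z * ((x⁻¹ : T) : G) * z = ((x⁻¹ : T) : G)⁻¹
          rw [Subgroup.coe_inv, inv_inv, ← hx,
            show z * (z * (x : G) * z) * z = z * z * x * (z * z) by group, hzz, one_mul, mul_one] }
    let κ : {s : G // Fixd Ω s ∧ s • a = b} → {x : J // x ≠ 1} := fun s =>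
      ⟨⟨(ι s).1, by
        show z * (z * s.1) * z = (z * s.1)⁻¹
        have hss : s.1⁻¹ = s.1 := inv_eq_of_mul_eq_one_right (by
          rw [← pow_two, ← s.2.1.1, pow_orderOf_eq_one])
        rw [mul_inv_rev, hss, inv_eq_of_mul_eq_one_right hzz, ← mul_assoc, hzz, one_mul]⟩,
        fun e => (ι s).2 (congrArg Subtype.val e)⟩
    have hκ : Function.Injective κ := fun s s' e =>
      hι (Subtype.ext (congrArg (fun x : {x : J // x ≠ 1} => (x.1 : T)) e))
    have hJ : s1 + 1 ≤ Nat.card J := by
      letI : Fintype J := Fintype.ofFinite J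
      have := Nat.card_le_card_of_injective κ hκ
      rw [Nat.card_eq_fintype_card (α := {x : J // x ≠ 1}), Fintype.card_subtype_compl,
        Fintype.card_subtype_eq, ← Nat.card_eq_fintype_card] at this
      have := Nat.card_pos (α := J)
      omega
    have hJtop : J = ⊤ := by
      by_contra hne
      have h2 := Subgroup.one_lt_index_of_ne_top hne
      have h3 := Subgroup.card_mul_index J
      have h4 : Nat.card J * 2 ≤ Nat.card J * J.index := Nat.mul_le_mul_left _ h2
      omega
    intro g hga hgb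
    have hmem : z * g ∈ T := by rw [mem_two, mul_smul, mul_smul, hga, hgb, hzb, hza]; exact ⟨rfl, rfl⟩
    have hx : z * (z * g) * z = (z * g)⁻¹ := (hJtop ▸ Subgroup.mem_top (⟨z * g, hmem⟩ : T) : _ ∈ J)
    rw [← mul_assoc, hzz, one_mul, mul_inv_rev, inv_eq_of_mul_eq_one_right hzz] at hx
    exact mul_eq_one_iff_eq_inv.mpr (mul_right_cancel hx)
  · -- semiregular on the other points
    intro c hca hcb g hg hgc
    haveI : MulAction.IsPretransitive G Ω := h.pretrans
    have hinj : Function.Injective fun x : F => (⟨(x : M) • b, fun e => hab ((smul_left_cancel_iff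
        ((x : M) : G)).mp (e.trans (x : M).2.symm)).symm⟩ : {y : Ω // y ≠ a}) := fun x y e => by
      have e' : ((x : M) : G) • b = ((y : M) : G) • b := congrArg Subtype.val e
      refine Subtype.ext (inv_mul_eq_one.mp (h.free hab (F.mul_mem (F.inv_mem x.2) y.2) ?_))
      rw [Subgroup.coe_mul, Subgroup.coe_inv, mul_smul, ← e', inv_smul_smul]
    have hcardne : Nat.card {y : Ω // y ≠ a} = Nat.card F := by
      rw [Nat.card_eq_fintype_card, Fintype.card_subtype_compl, Fintype.card_subtype_eq,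
        ← Nat.card_eq_fintype_card, hkN]
    obtain ⟨x, hx⟩ := ((Nat.bijective_iff_injective_and_card _).mpr ⟨hinj, hcardne.symm⟩).2 ⟨c, hca⟩
    have hxb : ((x : M) : G) • b = c := congrArg Subtype.val hx
    obtain ⟨hga, hgb⟩ := mem_two.mp hg
    set gM : M := ⟨g, hga⟩
    have hconj : gM * (x : M) * gM⁻¹ = x := by
      refine (inv_mul_eq_one.mp (h.free hab (F.mul_mem (F.inv_mem x.2)
        (hF.conj_mem _ x.2 gM)) ?_)).symm
      show (((x : M) : G)⁻¹ * (g * (x : M) * g⁻¹)) • b = b
      rw [mul_smul, mul_smul, mul_smul, inv_smul_eq_iff.mpr hgb.symm, hxb, hgc,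
        inv_smul_eq_iff, hxb]
    have hx1 : x ≠ 1 := fun e => hcb (by rw [← hxb, e]; exact one_smul G b)
    haveI : Fact (Nat.card F).Prime := ⟨hkN ▸ hprime⟩
    have htop : Subgroup.zpowers x = ⊤ := zpowers_eq_top_of_prime_card rfl hx1
    have hcent : gM ∈ F := hFF <| Subgroup.mem_centralizer_iff.mpr fun y hy => by
      obtain ⟨i, hi⟩ := Subgroup.mem_zpowers_iff.mp
        (htop ▸ Subgroup.mem_top (⟨y, hy⟩ : F) : (⟨y, hy⟩ : F) ∈ Subgroup.zpowers x)
      have hy' : (x : M) ^ i = y := congrArg Subtype.val hi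
      rw [← hy']
      exact ((Commute.zpow_right (show Commute gM (x : M) from
        mul_inv_eq_iff_eq_mul.mp hconj) i).symm).eq
    exact congrArg Subtype.val (h.free hab hcent hgb)

/-- With two fixed points the group has the properties of `PGL(2, p)`. -/
theorem Hyp.base (h : Hyp G Ω) (hns : ¬ Group.IsSolvable G) (hn : Even (Nat.card Ω))
    {a b : Ω} (hab : a ≠ b) {t : G} (ht : t ∈ Zass.two (G := G) a b) (ht2 : orderOf t = 2)
    (hf : fx Ω t = 2) : Dih G Ω ∧ (Nat.card Ω - 1).Prime ∧ 5 ≤ Nat.card Ω - 1 := by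
  obtain ⟨hp, h5, -⟩ := h.base_pair hns hn hab ht ht2 hf
  have hall : ∀ {p q : Ω}, p ≠ q →
      Nat.card (Zass.two (G := G) p q) = Nat.card Ω - 2 ∧
      (∀ g : G, g • p = q → g • q = p → g * g = 1) ∧
      ∀ c : Ω, c ≠ p → c ≠ q → ∀ g ∈ Zass.two (G := G) p q, g • c = c → g = 1 :=
    fun {p q} hpq => by
      obtain ⟨s, hs, hs2⟩ := h.exists_tau hns hn hpq
      exact (h.base_pair hns hn hpq hs hs2
        ((h.fixd_fx hn hab ht ht2 ⟨hs2, p, (mem_two.mp hs).1⟩).trans hf)).2.2
  refine ⟨⟨by omega, ?_, ?_, fun hpq => h.cyclic_two hpq, fun hpq g h1 h2 =>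
    (hall hpq).2.1 g h1 h2⟩, hp, h5⟩
  · intro a b c p q r hab hac hbc hpq hpr hqr
    obtain ⟨hcard, -, hfree⟩ := hall hpq
    obtain ⟨g, g1, g2⟩ := h.move hab hpq
    set T := Zass.two (G := G) p q
    have hgc : g • c ≠ p ∧ g • c ≠ q :=
      ⟨fun e => hac ((smul_left_cancel_iff g).mp (e.trans g1.symm)).symm,
        fun e => hbc ((smul_left_cancel_iff g).mp (e.trans g2.symm)).symm⟩
    let R := {y : Ω // y ≠ p ∧ y ≠ q}
    have hmem : ∀ x : T, (x : G) • g • c ≠ p ∧ (x : G) • g • c ≠ q := fun x =>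
      ⟨fun e => hgc.1 ((smul_left_cancel_iff (x : G)).mp (e.trans (mem_two.mp x.2).1.symm)),
        fun e => hgc.2 ((smul_left_cancel_iff (x : G)).mp (e.trans (mem_two.mp x.2).2.symm))⟩
    have hinj : Function.Injective fun x : T => (⟨(x : G) • g • c, hmem x⟩ : R) := fun x y e => by
      have e' : (x : G) • g • c = (y : G) • g • c := congrArg Subtype.val e
      refine inv_mul_eq_one.mp (Subtype.ext (hfree _ hgc.1 hgc.2 _ (x⁻¹ * y).2 ?_))
      rw [Subgroup.coe_mul, Subgroup.coe_inv, mul_smul, ← e', inv_smul_smul]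
    have hR : Nat.card R = Nat.card Ω - 2 := by
      rw [Nat.card_eq_fintype_card, Fintype.card_subtype]
      rw [show (Finset.univ.filter fun y : Ω => y ≠ p ∧ y ≠ q) =
          (Finset.univ : Finset Ω) \ {p, q} by ext y; simp, Finset.card_sdiff_of_subset
          (Finset.subset_univ _), Finset.card_pair hpq, Finset.card_univ, Nat.card_eq_fintype_card]
    obtain ⟨x, hx⟩ :=
      ((Nat.bijective_iff_injective_and_card _).mpr ⟨hinj, hcard.trans hR.symm⟩).2 ⟨r, hpr.symm, hqr.symm⟩
    exact ⟨(x : G) * g, by rw [mul_smul, g1, (mem_two.mp x.2).1],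
      by rw [mul_smul, g2, (mem_two.mp x.2).2], by rw [mul_smul]; exact congrArg Subtype.val hx⟩
  · intro a b c hab hac hbc g ga gb gc
    exact (hall hab).2.2 c hac.symm hbc.symm g (mem_two.mpr ⟨ga, gb⟩) gc

end Cfsg.Agent.CycZ
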