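import Mathlib.GroupTheory.SpecificGroups.ZGroup
import Mathlib.GroupTheory.GroupAction.MultipleTransitivity
import Mathlib.GroupTheory.Perm.Cycle.Type

/-!
# Z-groups, semiregular permutations and the sign

Small tools for the classification of 2-transitive groups with a Z-group as point stabiliser and a
semiregular cyclic 2-subgroup of full order.
-/

set_option autoImplicit false
set_option linter.unusedSectionVars false
set_option linter.style.haveILetI false

namespace Cfsg.Agent.CycZ

open scoped Classical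

universe u v

section ZG

variable {G : Type u} [Group G] [Finite G]

/-- Two commuting involutions of a Z-group are equal. -/
theorem invol_eq {M : Subgroup G} [IsZGroup M] {s t : G} (hs : s ∈ M) (ht : t ∈ M)
    (hs2 : orderOf s = 2) (ht2 : orderOf t = 2) (hc : Commute s t) : s = t := by
  haveI : Fact (Nat.Prime 2) := ⟨Nat.prime_two⟩
  have hp : ∀ x : G, orderOf x = 2 → IsPGroup 2 (Subgroup.zpowers x) := fun x hx =>
    IsPGroup.of_card (n := 1) (by rw [Nat.card_zpowers, hx, pow_one])
  have hnorm : Subgroup.zpowers s ≤ Subgroup.normalizer (Subgroup.zpowers t : Set G) := by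
    refine Subgroup.zpowers_le.mpr ?_
    rw [Subgroup.mem_normalizer_iff]
    intro x
    constructor
    · intro hx
      obtain ⟨i, rfl⟩ := Subgroup.mem_zpowers_iff.mp hx
      rw [(hc.zpow_right i).eq, mul_inv_cancel_right]
      exact hx
    · intro hx
      obtain ⟨i, hi⟩ := Subgroup.mem_zpowers_iff.mp hx
      have : x = t ^ i := by
        calc x = s⁻¹ * (s * x * s⁻¹) * s := by group
          _ = s⁻¹ * t ^ i * s := by rw [hi]
          _ = t ^ i := by rw [mul_assoc, ← (hc.zpow_right i).eq, inv_mul_cancel_left]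
      rw [this]
      exact Subgroup.zpow_mem _ (Subgroup.mem_zpowers t) i
  have hP : IsPGroup 2 (Subgroup.zpowers s ⊔ Subgroup.zpowers t : Subgroup G) :=
    IsPGroup.to_sup_of_normal_right' (hp s hs2) (hp t ht2) hnorm
  have hle : Subgroup.zpowers s ⊔ Subgroup.zpowers t ≤ M :=
    sup_le (Subgroup.zpowers_le.mpr hs) (Subgroup.zpowers_le.mpr ht)
  set P := (Subgroup.zpowers s ⊔ Subgroup.zpowers t).subgroupOf M
  haveI hcyc : IsCyclic P :=
    IsPGroup.isCyclic_of_isZGroup (hP.of_equiv (Subgroup.subgroupOfEquivOfLe hle).symm)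
  by_contra hne
  letI : Fintype P := Fintype.ofFinite P
  have key := IsCyclic.card_pow_eq_one_le (α := P) (n := 2) two_pos
  let a : P := ⟨⟨s, hs⟩, Subgroup.mem_sup_left (Subgroup.mem_zpowers s)⟩
  let b : P := ⟨⟨t, ht⟩, Subgroup.mem_sup_right (Subgroup.mem_zpowers t)⟩
  have hsub : ({1, a, b} : Finset P) ⊆ Finset.univ.filter (fun x : P => x ^ 2 = 1) := by
    intro x hx
    simp only [Finset.mem_insert, Finset.mem_singleton] at hx
    rw [Finset.mem_filter]
    refine ⟨Finset.mem_univ _, ?_⟩
    rcases hx with rfl | rfl | rfl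
    · exact one_pow 2
    · refine Subtype.ext (Subtype.ext ?_)
      show s ^ 2 = 1
      rw [← hs2, pow_orderOf_eq_one]
    · refine Subtype.ext (Subtype.ext ?_)
      show t ^ 2 = 1
      rw [← ht2, pow_orderOf_eq_one]
  have h3 : ({1, a, b} : Finset P).card = 3 := by
    rw [Finset.card_eq_three]
    refine ⟨1, a, b, fun e => ?_, fun e => ?_, fun e => hne ?_, rfl⟩
    · have : s = 1 := (congrArg (fun x : P => ((x : M) : G)) e).symm
      rw [this, orderOf_one] at hs2
      omega
    · have : t = 1 := (congrArg (fun x : P => ((x : M) : G)) e).symm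
      rw [this, orderOf_one] at ht2
      omega
    · exact congrArg (fun x : P => ((x : M) : G)) e
  have := Finset.card_le_card hsub
  omega

variable (G) in
/-- A Z-group has a cyclic normal subgroup containing the commutator subgroup and its own
centraliser. -/
theorem exists_fitting [IsZGroup G] : ∃ F : Subgroup G, F.Normal ∧ IsCyclic F ∧
    commutator G ≤ F ∧ Subgroup.centralizer (F : Set G) ≤ F := by
  set K := commutator G
  haveI hK : IsCyclic K := IsZGroup.isCyclic_commutator G
  have hKF : K ≤ Subgroup.centralizer (K : Set G) := by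
    intro x hx
    rw [Subgroup.mem_centralizer_iff]
    intro y hy
    haveI : IsMulCommutative K := inferInstance
    exact congrArg Subtype.val (mul_comm' (⟨y, hy⟩ : K) ⟨x, hx⟩)
  refine ⟨Subgroup.centralizer (K : Set G), inferInstance, ?_, hKF,
    Subgroup.centralizer_le fun x hx => hKF hx⟩
  set F := Subgroup.centralizer (K : Set G)
  let f : F →* Abelianization G := Abelianization.of.comp F.subtype
  have hker : f.ker ≤ Subgroup.center F := by
    intro x hx
    rw [MonoidHom.mem_ker] at hx
    have hxK : (x : G) ∈ K := by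
      show (x : G) ∈ commutator G
      rw [← Abelianization.ker_of G, MonoidHom.mem_ker]
      exact hx
    rw [Subgroup.mem_center_iff]
    intro y
    exact Subtype.ext (Subgroup.mem_centralizer_iff.mp y.2 x hxK).symm
  letI : CommGroup F := commGroupOfCyclicCenterQuotient f hker
  infer_instance

/-- A subgroup of a cyclic normal subgroup is normal. -/
theorem normal_of_le_cyclic {F U : Subgroup G} [hF : F.Normal] [IsCyclic F] (h : U ≤ F) :
    U.Normal := by
  refine ⟨fun x hx g => ?_⟩
  obtain ⟨m, hm⟩ := MonoidHom.map_cyclic ((MulAut.conjNormal g : MulAut F).toMonoidHom)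
  have e := congrArg Subtype.val (hm ⟨x, h hx⟩)
  simp only [MulEquiv.toMonoidHom_eq_coe, MonoidHom.coe_coe, MulAut.conjNormal_apply,
    SubgroupClass.coe_zpow] at e
  rw [e]
  exact U.zpow_mem hx m

end ZG

section Sign

variable {α : Type v} [Fintype α]

/-- The sign of a permutation whose nontrivial cycles all have length `k`. -/
theorem sign_uniform (σ : Equiv.Perm α) (k : ℕ) (hk : 0 < k) (hσ : σ ^ k = 1)
    (hfree : ∀ x, σ x ≠ x → ∀ i : ℕ, (σ ^ i) x = x → k ∣ i) :
    Equiv.Perm.sign σ =
      (-1 : ℤˣ) ^ (σ.support.card + σ.support.card / k) := by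
  have hall : ∀ n ∈ σ.cycleType, n = k := by
    intro n hn
    refine Nat.dvd_antisymm ((Equiv.Perm.dvd_of_mem_cycleType hn).trans
      (orderOf_dvd_of_pow_eq_one hσ)) ?_
    obtain ⟨c, τ, rfl, hd, hc, rfl⟩ := Equiv.Perm.mem_cycleType_iff.mp hn
    obtain ⟨x, hx, -⟩ := id hc
    have hτx : τ x = x := (hd x).resolve_left hx
    have hpow : ∀ i : ℕ, ((c * τ) ^ i) x = (c ^ i) x := fun i => by
      rw [hd.commute.mul_pow, Equiv.Perm.mul_apply]
      congr 1
      induction i with
      | zero => rfl
      | succ i ih => rw [pow_succ, Equiv.Perm.mul_apply, hτx, ih]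
    refine hfree x (fun e => hx ?_) _ ?_
    · have := hpow 1
      rw [pow_one, pow_one] at this
      rw [← this, e]
    · rw [hpow, ← hc.orderOf, pow_orderOf_eq_one, Equiv.Perm.one_apply]
  have hrep : σ.cycleType = Multiset.replicate σ.cycleType.card k :=
    Multiset.eq_replicate.mpr ⟨rfl, hall⟩
  rw [Equiv.Perm.sign_of_cycleType]
  have hs : σ.cycleType.card * k = σ.support.card := by
    rw [← Equiv.Perm.sum_cycleType]
    conv_rhs => rw [hrep]
    rw [Multiset.sum_replicate, smul_eq_mul]
  rw [Equiv.Perm.sum_cycleType]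
  congr 2
  rw [← hs, Nat.mul_div_cancel _ hk]

theorem neg_one_pow_congr {a b : ℕ} (h : a % 2 = b % 2) : (-1 : ℤˣ) ^ a = (-1 : ℤˣ) ^ b := by
  rcases Nat.even_or_odd a with ha | ha
  · rw [ha.neg_one_pow, Even.neg_one_pow (Nat.even_iff.mpr (h ▸ Nat.even_iff.mp ha))]
  · rw [ha.neg_one_pow, Odd.neg_one_pow (Nat.odd_iff.mpr (h ▸ Nat.odd_iff.mp ha))]

theorem neg_one_pow_inj {a b : ℕ} (h : (-1 : ℤˣ) ^ a = (-1 : ℤˣ) ^ b) : a % 2 = b % 2 := by
  rcases Nat.even_or_odd a with ha | ha <;> rcases Nat.even_or_odd b with hb | hb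
  · rw [Nat.even_iff.mp ha, Nat.even_iff.mp hb]
  · rw [ha.neg_one_pow, hb.neg_one_pow] at h
    exact absurd h (by decide)
  · rw [ha.neg_one_pow, hb.neg_one_pow] at h
    exact absurd h (by decide)
  · rw [Nat.odd_iff.mp ha, Nat.odd_iff.mp hb]

end Sign

end Cfsg.Agent.CycZ
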