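import Cfsg.Agent.Lib.CycZ.Basic
import Cfsg.Agent.Lib.Zassenhaus.Setup
import Cfsg.Agent.Lib.OddChar.OddTheorem
import Cfsg.Agent.Lib.OddDown.MetacyclicSoluble

/-!
# The hypothesis and the fundamental count

`Hyp G Ω`: faithful, 2-transitive, point stabilisers are Z-groups, and some semiregular element has
order the 2-part of the degree.  `Dih G Ω`: the properties of `PGL(2, p)` on the projective line
that are needed in the induction.
-/

set_option autoImplicit false
set_option linter.unusedSectionVars false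
set_option linter.style.haveILetI false

namespace Cfsg.Agent.CycZ

open MulAction Cfsg.Agent.Zass
open scoped Classical

universe u v

variable {G : Type u} [Group G] [Finite G] {Ω : Type v} [MulAction G Ω] [Fintype Ω]

/-- The number of fixed points. -/
noncomputable abbrev fx (Ω : Type v) [MulAction G Ω] (g : G) : ℕ :=
  Nat.card {x : Ω // g • x = x}

/-- The sign of an element as a permutation. -/
noncomputable abbrev sgn (Ω : Type v) [MulAction G Ω] [Fintype Ω] : G →* ℤˣ :=
  Equiv.Perm.sign.comp (MulAction.toPermHom G Ω)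

/-- Involutions with a fixed point. -/
def Fixd (Ω : Type v) [MulAction G Ω] (s : G) : Prop := orderOf s = 2 ∧ ∃ x : Ω, s • x = x

/-- The hypothesis of the induction. -/
structure Hyp (G : Type u) [Group G] (Ω : Type v) [MulAction G Ω] : Prop where
  faith : FaithfulSMul G Ω
  two : MulAction.IsMultiplyPretransitive G Ω 2
  zgp : ∀ a : Ω, IsZGroup (stabilizer G a)
  semi : ∃ g : G, orderOf g = 2 ^ (Nat.card Ω).factorization 2 ∧
    ∀ (i : ℕ) (x : Ω), g ^ i • x = x → g ^ i = 1

/-- The properties of `PGL(2, p)` used in the induction. -/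
structure Dih (G : Type u) [Group G] (Ω : Type v) [MulAction G Ω] : Prop where
  four : 4 ≤ Nat.card Ω
  three : ∀ {a b c p q r : Ω}, a ≠ b → a ≠ c → b ≠ c → p ≠ q → p ≠ r → q ≠ r →
    ∃ g : G, g • a = p ∧ g • b = q ∧ g • c = r
  triv : ∀ {a b c : Ω}, a ≠ b → a ≠ c → b ≠ c → ∀ g : G,
    g • a = a → g • b = b → g • c = c → g = 1
  cyc : ∀ {a b : Ω}, a ≠ b → IsCyclic (Zass.two (G := G) a b)
  swap : ∀ {a b : Ω}, a ≠ b → ∀ g : G, g • a = b → g • b = a → g * g = 1

theorem card_pairs (α : Type*) [Fintype α] :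
    Nat.card {p : α × α // p.1 ≠ p.2} = Nat.card α * (Nat.card α - 1) := by
  rw [Nat.card_eq_fintype_card, Nat.card_eq_fintype_card, Fintype.card_subtype]
  have : (Finset.univ.filter fun p : α × α => p.1 ≠ p.2) = (Finset.univ : Finset α).offDiag := by
    ext p
    simp
  rw [this, Finset.offDiag_card, Finset.card_univ, Nat.mul_sub_one]

theorem card_two_trans (h2 : MulAction.IsMultiplyPretransitive G Ω 2) {a b : Ω} (hab : a ≠ b) :
    Nat.card G = Nat.card Ω * (Nat.card Ω - 1) * Nat.card (Zass.two (G := G) a b) := by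
  have h := Subgroup.index_mul_card (MulAction.stabilizer G ((a, b) : Ω × Ω))
  rw [MulAction.index_stabilizer] at h
  have e1 : (MulAction.orbit G ((a, b) : Ω × Ω)).ncard = Nat.card Ω * (Nat.card Ω - 1) := by
    rw [← card_pairs Ω, ← Nat.card_coe_set_eq]
    refine Nat.card_congr (Equiv.subtypeEquivRight fun p => ⟨?_, fun hp => ?_⟩)
    · rintro ⟨g, rfl⟩ e
      exact hab ((smul_left_cancel_iff g).mp e)
    · obtain ⟨g, h1, h2⟩ := is_two_pretransitive_iff.mp h2 hab hp
      exact ⟨g, Prod.ext h1 h2⟩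
  have e2 : MulAction.stabilizer G ((a, b) : Ω × Ω) = Zass.two a b := by
    ext g
    rw [mem_stabilizer_iff, mem_two, Prod.ext_iff]
    rfl
  rw [e1, e2] at h
  exact h.symm

theorem card_stab_two_trans (h2 : MulAction.IsMultiplyPretransitive G Ω 2) {a b : Ω} (hab : a ≠ b) :
    Nat.card (stabilizer G a) = (Nat.card Ω - 1) * Nat.card (Zass.two (G := G) a b) := by
  haveI := h2
  haveI : MulAction.IsPretransitive G Ω :=
    MulAction.isPretransitive_of_is_two_pretransitive
  have h := Subgroup.index_mul_card (MulAction.stabilizer G a)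
  rw [MulAction.index_stabilizer_of_transitive, card_two_trans h2 hab, mul_assoc] at h
  exact Nat.eq_of_mul_eq_mul_left (Nat.card_pos_iff.mpr ⟨⟨a⟩, inferInstance⟩) h

theorem sgn_apply (g : G) : sgn Ω g = Equiv.Perm.sign (MulAction.toPerm g : Equiv.Perm Ω) := rfl

theorem card_moved (g : G) :
    (MulAction.toPerm g : Equiv.Perm Ω).support.card = Nat.card Ω - fx Ω g := by
  have e := Fintype.card_subtype_compl (fun x : Ω => g • x = x)
  rw [fx, Nat.card_eq_fintype_card, Nat.card_eq_fintype_card]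
  have : (MulAction.toPerm g : Equiv.Perm Ω).support.card =
      Fintype.card {x : Ω // ¬ g • x = x} := by
    rw [Fintype.card_subtype]
    congr 1
  rw [this, e]

/-- The sign of an element all whose nontrivial cycles have length `k`. -/
theorem sgn_uniform (g : G) (k : ℕ) (hk : 0 < k) (hg : g ^ k = 1)
    (hfree : ∀ x : Ω, g • x ≠ x → ∀ i : ℕ, g ^ i • x = x → k ∣ i) :
    sgn Ω g = (-1 : ℤˣ) ^ ((Nat.card Ω - fx Ω g) + (Nat.card Ω - fx Ω g) / k) := by
  have hpow : ∀ i : ℕ, (MulAction.toPerm g : Equiv.Perm Ω) ^ i = MulAction.toPerm (g ^ i) :=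
    fun i => (map_pow (MulAction.toPermHom G Ω) g i).symm
  rw [sgn_apply, sign_uniform _ k hk (by rw [hpow, hg]; ext x; exact one_smul G x)
    (fun x hx i hi => hfree x hx i (by rw [hpow] at hi; exact hi)), card_moved]

theorem sgn_invol {g : G} (hg : g * g = 1) :
    sgn Ω g = (-1 : ℤˣ) ^ ((Nat.card Ω - fx Ω g) + (Nat.card Ω - fx Ω g) / 2) := by
  refine sgn_uniform g 2 two_pos (by rw [pow_two, hg]) fun x hx i hi => ?_
  rcases Nat.even_or_odd i with hie | ⟨k, rfl⟩
  · exact hie.two_dvd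
  · rw [pow_succ, pow_mul, pow_two, hg, one_pow, one_mul] at hi
    exact absurd hi hx

theorem fx_parity {g : G} (hg : g * g = 1) : fx Ω g % 2 = Nat.card Ω % 2 := by
  haveI : Fact (Nat.Prime 2) := ⟨Nat.prime_two⟩
  have h : (MulAction.toPerm g : Equiv.Perm Ω) ^ 2 ^ 1 = 1 := by
    rw [pow_one, pow_two]
    ext x
    rw [Equiv.Perm.mul_apply, MulAction.toPerm_apply, MulAction.toPerm_apply, ← mul_smul, hg,
      one_smul, Equiv.Perm.one_apply]
  have h2 := Equiv.Perm.card_compl_support_modEq (p := 2) (n := 1) h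
  rw [Finset.card_compl, card_moved, ← Nat.card_eq_fintype_card] at h2
  have hle : fx Ω g ≤ Nat.card Ω := Nat.card_le_card_of_injective _ Subtype.val_injective
  rw [show Nat.card Ω - (Nat.card Ω - fx Ω g) = fx Ω g by omega] at h2
  exact h2

namespace Hyp

variable (h : Hyp G Ω)
include h

theorem move {a b p q : Ω} (hab : a ≠ b) (hpq : p ≠ q) : ∃ g : G, g • a = p ∧ g • b = q :=
  is_two_pretransitive_iff.mp h.two hab hpq

theorem pretrans : MulAction.IsPretransitive G Ω := by
  haveI := h.two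
  exact MulAction.isPretransitive_of_is_two_pretransitive

/-- A cyclic normal subgroup of a point stabiliser is semiregular on the other points. -/
theorem free {a : Ω} {F : Subgroup (stabilizer G a)} [F.Normal] [IsCyclic F] {b : Ω}
    (hab : a ≠ b) {x : stabilizer G a} (hx : x ∈ F) (hxb : (x : G) • b = b) : x = 1 := by
  set T : Subgroup (stabilizer G a) := (Zass.two a b).subgroupOf (stabilizer G a)
  have hxT : x ∈ F ⊓ T := ⟨hx, ⟨x.2, hxb⟩⟩
  haveI hn : (F ⊓ T).Normal := normal_of_le_cyclic inf_le_left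
  refine Subtype.ext ?_
  haveI := h.faith
  refine eq_of_smul_eq_smul fun c : Ω => ?_
  show (x : G) • c = (1 : G) • c
  rw [one_smul]
  by_cases hca : c = a
  · rw [hca]
    exact x.2
  obtain ⟨g, g1, g2⟩ := h.move hab (Ne.symm hca)
  have : ((⟨g, g1⟩⁻¹ * x * ⟨g, g1⟩⁻¹⁻¹ : stabilizer G a) : G) ∈ Zass.two (G := G) a b :=
    (hn.conj_mem x hxT ⟨g, g1⟩⁻¹).2
  rw [mem_two] at this
  have e := this.2
  simp only [Subgroup.coe_mul, Subgroup.coe_inv, inv_inv] at e
  rw [mul_smul, mul_smul, g2, inv_smul_eq_iff, g2] at e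
  exact e

theorem cyclic_two {a b : Ω} (hab : a ≠ b) : IsCyclic (Zass.two (G := G) a b) := by
  haveI := h.zgp a
  obtain ⟨F, hF, hFc, hKF, -⟩ := exists_fitting (stabilizer G a)
  set T : Subgroup (stabilizer G a) := (Zass.two a b).subgroupOf (stabilizer G a)
  have hU : F ⊓ T = ⊥ :=
    (Subgroup.eq_bot_iff_forall _).mpr fun x hx => h.free hab hx.1 (mem_two.mp hx.2).2
  let f : T →* Abelianization (stabilizer G a) := Abelianization.of.comp T.subtype
  have hf : Function.Injective f := by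
    rw [← MonoidHom.ker_eq_bot_iff]
    refine (Subgroup.eq_bot_iff_forall _).mpr fun x hx => Subtype.ext ?_
    have h1 : (x : stabilizer G a) ∈ commutator (stabilizer G a) := by
      rw [← Abelianization.ker_of (stabilizer G a)]
      exact hx
    have h2 : (x : stabilizer G a) ∈ F ⊓ T := ⟨hKF h1, x.2⟩
    rw [hU] at h2
    exact h2
  haveI : IsCyclic T := isCyclic_of_injective f hf
  exact isCyclic_of_surjective (Subgroup.subgroupOfEquivOfLe inf_le_left).toMonoidHom
    (Subgroup.subgroupOfEquivOfLe inf_le_left).surjective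

theorem zgroup_two {a b : Ω} : IsZGroup (Zass.two (G := G) a b) := by
  haveI := h.zgp a
  exact IsZGroup.of_injective (f := Subgroup.inclusion inf_le_left)
    (Subgroup.inclusion_injective _)

theorem invol_unique {a b : Ω} (hab : a ≠ b) {s t : G} (hs : s ∈ Zass.two (G := G) a b)
    (ht : t ∈ Zass.two (G := G) a b) (hs2 : orderOf s = 2) (ht2 : orderOf t = 2) : s = t := by
  haveI := h.zgroup_two (a := a) (b := b)
  haveI := h.cyclic_two hab
  refine invol_eq hs ht hs2 ht2 ?_
  exact congrArg Subtype.val (mul_comm' (⟨s, hs⟩ : Zass.two (G := G) a b) ⟨t, ht⟩)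

/-- Two commuting involutions fixing a common point are equal. -/
theorem invol_point {a : Ω} {s t : G} (hs : s • a = a) (ht : t • a = a) (hs2 : orderOf s = 2)
    (ht2 : orderOf t = 2) (hc : Commute s t) : s = t := by
  haveI := h.zgp a
  exact invol_eq (M := stabilizer G a) (mem_stabilizer_iff.mpr hs) (mem_stabilizer_iff.mpr ht)
    hs2 ht2 hc

theorem solvable_stab (a : Ω) : Group.IsSolvable (stabilizer G a) := by
  haveI := h.zgp a
  infer_instance

theorem solvable_of_odd (hn : Odd (Nat.card Ω)) : Group.IsSolvable G := by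
  haveI : Fact (Nat.Prime 2) := ⟨Nat.prime_two⟩
  haveI := h.pretrans
  obtain ⟨a⟩ : Nonempty Ω := (Nat.card_pos_iff.mp hn.pos).1
  let S : Sylow 2 (stabilizer G a) := default
  have hind : ¬ 2 ∣ (stabilizer G a).index := by
    rw [MulAction.index_stabilizer_of_transitive]
    exact hn.not_two_dvd_nat
  obtain ⟨P, hP⟩ := (S.2.map (stabilizer G a).subtype).exists_le_sylow
  haveI := h.zgp a
  have hcard : Nat.card (S : Subgroup (stabilizer G a)) = Nat.card P := by
    rw [S.card_eq_multiplicity, P.card_eq_multiplicity, ← Subgroup.index_mul_card (stabilizer G a),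
      Nat.factorization_mul Subgroup.index_ne_zero_of_finite Nat.card_pos.ne', Finsupp.add_apply,
      Nat.factorization_eq_zero_of_not_dvd hind, zero_add]
  have heq : (S : Subgroup (stabilizer G a)).map (stabilizer G a).subtype = P := by
    refine Subgroup.eq_of_le_of_card_ge hP ?_
    rw [Subgroup.card_map_of_injective (stabilizer G a).subtype_injective, hcard]
  refine OddDown.MetaSol.solvable_of_cyclic (fun H _ _ hH => OddChar.oddSolvable H hH) P ?_
  rw [← heq]
  exact isCyclic_of_surjective _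
    ((S : Subgroup _).equivMapOfInjective _ (stabilizer G a).subtype_injective).surjective

theorem semi_card : ∃ A : Subgroup G, IsCyclic A ∧
    Nat.card A = 2 ^ (Nat.card Ω).factorization 2 ∧
    ∀ g ∈ A, ∀ x : Ω, g • x = x → g = 1 := by
  obtain ⟨g, hg, hfree⟩ := h.semi
  refine ⟨Subgroup.zpowers g, inferInstance, by rw [Nat.card_zpowers, hg], fun y hy x hx => ?_⟩
  obtain ⟨i, rfl⟩ := mem_powers_iff_mem_zpowers.mpr hy
  exact hfree i x hx

theorem even_two (hns : ¬ Group.IsSolvable G) (hn : Even (Nat.card Ω)) {a b : Ω} (hab : a ≠ b) :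
    Even (Nat.card (Zass.two (G := G) a b)) := by
  haveI : Fact (Nat.Prime 2) := ⟨Nat.prime_two⟩
  by_contra hT
  rw [Nat.not_even_iff_odd] at hT
  obtain ⟨A, hAc, hA, -⟩ := h.semi_card
  obtain ⟨P, hP⟩ := (IsPGroup.of_card (p := 2) hA).exists_le_sylow
  have h0 : 0 < Nat.card Ω := Nat.card_pos_iff.mpr ⟨⟨a⟩, inferInstance⟩
  have h1 : Odd (Nat.card Ω - 1) := Nat.Even.sub_odd h0 hn odd_one
  have hcard : Nat.card P = Nat.card A := by
    rw [P.card_eq_multiplicity, hA, card_two_trans h.two hab,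
      Nat.factorization_mul (Nat.mul_pos h0 h1.pos).ne' Nat.card_pos.ne',
      Nat.factorization_mul h0.ne' h1.pos.ne', Finsupp.add_apply, Finsupp.add_apply,
      Nat.factorization_eq_zero_of_not_dvd hT.not_two_dvd_nat,
      Nat.factorization_eq_zero_of_not_dvd h1.not_two_dvd_nat, add_zero, add_zero]
  have heq : A = P := Subgroup.eq_of_le_of_card_ge hP hcard.le
  refine hns (OddDown.MetaSol.solvable_of_cyclic (fun H _ _ hH => OddChar.oddSolvable H hH) P ?_)
  rw [← heq]
  exact hAc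

theorem exists_tau (hns : ¬ Group.IsSolvable G) (hn : Even (Nat.card Ω)) {a b : Ω} (hab : a ≠ b) :
    ∃ t ∈ Zass.two (G := G) a b, orderOf t = 2 := by
  haveI : Fact (Nat.Prime 2) := ⟨Nat.prime_two⟩
  obtain ⟨x, hx⟩ := exists_prime_orderOf_dvd_card' 2 (h.even_two hns hn hab).two_dvd
  exact ⟨x, x.2, by rw [Subgroup.orderOf_coe, hx]⟩

theorem second_fixed (hn : Even (Nat.card Ω)) {s : G} (hs : orderOf s = 2) {a : Ω}
    (ha : s • a = a) : ∃ b : Ω, b ≠ a ∧ s • b = b := by
  have h2 : s * s = 1 := by rw [← pow_two, ← hs, pow_orderOf_eq_one]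
  have hp := fx_parity (Ω := Ω) h2
  rw [Nat.even_iff.mp hn] at hp
  haveI : Nontrivial {x : Ω // s • x = x} := by
    rw [← Fintype.one_lt_card_iff_nontrivial, ← Nat.card_eq_fintype_card]
    have : 0 < fx Ω s := Nat.card_pos_iff.mpr ⟨⟨⟨a, ha⟩⟩, inferInstance⟩
    rw [fx] at hp this
    omega
  obtain ⟨y, hy⟩ := exists_ne (⟨a, ha⟩ : {x : Ω // s • x = x})
  exact ⟨y.1, fun e => hy (Subtype.ext e), y.2⟩

end Hyp

theorem fixd_conj {s : G} (hs : Fixd Ω s) (g : G) : Fixd Ω (g * s * g⁻¹) := by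
  obtain ⟨h2, x, hx⟩ := hs
  refine ⟨?_, g • x, by rw [mul_smul, mul_smul, inv_smul_smul, hx]⟩
  rw [show g * s * g⁻¹ = MulAut.conj g s from rfl, MulEquiv.orderOf_eq, h2]

theorem fx_conj (g x : G) : fx Ω (x * g * x⁻¹) = fx Ω g :=
  Nat.card_congr ((MulAction.toPerm x⁻¹ : Equiv.Perm Ω).subtypeEquiv fun a => by
    rw [MulAction.toPerm_apply, mul_smul, mul_smul]
    exact ⟨fun h => eq_inv_smul_iff.mpr h, fun h => eq_inv_smul_iff.mp h⟩)

namespace Hyp

variable (h : Hyp G Ω)
include h

/-- Every involution with a fixed point is conjugate to `τ`. -/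
theorem fixd_isConj (hn : Even (Nat.card Ω)) {a b : Ω} (hab : a ≠ b) {t : G}
    (ht : t ∈ Zass.two (G := G) a b) (ht2 : orderOf t = 2) {s : G} (hs : Fixd Ω s) : IsConj t s := by
  obtain ⟨h2, x, hx⟩ := hs
  obtain ⟨y, hyx, hy⟩ := h.second_fixed hn h2 hx
  obtain ⟨g, g1, g2⟩ := h.move (Ne.symm hyx) hab
  have hmem : g * s * g⁻¹ ∈ Zass.two (G := G) a b := by
    rw [mem_two]
    constructor
    · rw [← g1, mul_smul, mul_smul, inv_smul_smul, hx]
    · rw [← g2, mul_smul, mul_smul, inv_smul_smul, hy]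
  have e := h.invol_unique hab ht hmem ht2
    (by rw [show g * s * g⁻¹ = MulAut.conj g s from rfl, MulEquiv.orderOf_eq, h2])
  exact (isConj_iff.mpr ⟨g, e.symm⟩).symm

theorem fixd_fx (hn : Even (Nat.card Ω)) {a b : Ω} (hab : a ≠ b) {t : G}
    (ht : t ∈ Zass.two (G := G) a b) (ht2 : orderOf t = 2) {s : G} (hs : Fixd Ω s) :
    fx Ω s = fx Ω t := by
  obtain ⟨g, rfl⟩ := isConj_iff.mp (h.fixd_isConj hn hab ht ht2 hs)
  exact fx_conj t g

/-- The fundamental count. -/
theorem count (hn : Even (Nat.card Ω)) {a b : Ω} (hab : a ≠ b) {t : G}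
    (ht : t ∈ Zass.two (G := G) a b) (ht2 : orderOf t = 2) :
    Nat.card Ω = fx Ω t +
      fx Ω t * (fx Ω t - 1) * Nat.card {s : G // Fixd Ω s ∧ s • a = b} := by
  set f := fx Ω t
  set N := Nat.card Ω
  set s1 := Nat.card {s : G // Fixd Ω s ∧ s • a = b}
  set I := {s : G // Fixd Ω s}
  letI : Fintype I := Fintype.ofFinite I
  have hFt : Fixd Ω t := ⟨ht2, a, (mem_two.mp ht).1⟩
  -- pairs of fixed points
  have e1 : Nat.card I * (f * (f - 1)) = N * (N - 1) := by
    have hfib : ∀ s : I,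
        Nat.card {p : {p : Ω × Ω // p.1 ≠ p.2} // s.1 • p.1.1 = p.1.1 ∧ s.1 • p.1.2 = p.1.2} =
          f * (f - 1) := fun s => by
      have hf : fx Ω s.1 = f := h.fixd_fx hn hab ht ht2 s.2
      rw [← hf, fx, ← card_pairs]
      exact Nat.card_congr
        { toFun := fun p => ⟨(⟨p.1.1.1, p.2.1⟩, ⟨p.1.1.2, p.2.2⟩),
            fun e => p.1.2 (congrArg Subtype.val e)⟩
          invFun := fun q => ⟨⟨(q.1.1.1, q.1.2.1), fun e => q.2 (Subtype.ext e)⟩, q.1.1.2, q.1.2.2⟩
          left_inv := fun _ => rfl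
          right_inv := fun _ => rfl }
    have hone : ∀ p : {p : Ω × Ω // p.1 ≠ p.2},
        Nat.card {s : I // s.1 • p.1.1 = p.1.1 ∧ s.1 • p.1.2 = p.1.2} = 1 := fun p => by
      rw [Nat.card_eq_one_iff_unique]
      refine ⟨⟨fun x y => Subtype.ext (Subtype.ext ?_)⟩, ?_⟩
      · exact h.invol_unique p.2 (mem_two.mpr x.2) (mem_two.mpr y.2) x.1.2.1 y.1.2.1
      · obtain ⟨g, g1, g2⟩ := h.move hab p.2
        refine ⟨⟨⟨g * t * g⁻¹, fixd_conj hFt g⟩, ?_, ?_⟩⟩
        · rw [← g1, mul_smul, mul_smul, inv_smul_smul, (mem_two.mp ht).1]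
        · rw [← g2, mul_smul, mul_smul, inv_smul_smul, (mem_two.mp ht).2]
    have e : Nat.card (Σ s : I, {p : {p : Ω × Ω // p.1 ≠ p.2} //
          s.1 • p.1.1 = p.1.1 ∧ s.1 • p.1.2 = p.1.2}) =
        Nat.card (Σ p : {p : Ω × Ω // p.1 ≠ p.2},
          {s : I // s.1 • p.1.1 = p.1.1 ∧ s.1 • p.1.2 = p.1.2}) :=
      Nat.card_congr
        { toFun := fun q => ⟨q.2.1, q.1, q.2.2⟩
          invFun := fun q => ⟨q.2.1, q.1, q.2.2⟩
          left_inv := fun _ => rfl
          right_inv := fun _ => rfl }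
    rw [Nat.card_sigma, Nat.card_sigma, Finset.sum_congr rfl (fun s _ => hfib s),
      Finset.sum_congr rfl (fun p _ => hone p)] at e
    simp only [Finset.sum_const, Finset.card_univ, smul_eq_mul, mul_one] at e
    rw [← Nat.card_eq_fintype_card, ← Nat.card_eq_fintype_card, card_pairs] at e
    exact e
  -- moved points
  have e2 : Nat.card I * (N - f) = N * (N - 1) * s1 := by
    have hfib : ∀ p : {p : Ω × Ω // p.1 ≠ p.2},
        Nat.card {s : G // Fixd Ω s ∧ s • p.1.1 = p.1.2} = s1 := fun p => by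
      obtain ⟨g, hga, hgb⟩ := h.move hab p.2
      refine (Nat.card_congr ((MulAut.conj g).toEquiv.subtypeEquiv fun s => ?_)).symm
      show Fixd Ω s ∧ s • a = b ↔ Fixd Ω (g * s * g⁻¹) ∧ (g * s * g⁻¹) • p.1.1 = p.1.2
      rw [mul_smul, mul_smul, show g⁻¹ • p.1.1 = a by rw [inv_smul_eq_iff, hga]]
      refine and_congr ⟨fun e => fixd_conj e g, fun e => ?_⟩ ⟨fun e => by rw [e, hgb], fun e => ?_⟩
      · have := fixd_conj e g⁻¹
        rwa [show g⁻¹ * (g * s * g⁻¹) * g⁻¹⁻¹ = s by group] at this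
      · exact (smul_left_cancel_iff g).mp (e.trans hgb.symm)
    have hmv : ∀ s : I, Nat.card {x : Ω // s.1 • x ≠ x} = N - f := fun s => by
      have hfs : fx Ω s.1 = f := h.fixd_fx hn hab ht ht2 s.2
      rw [fx, Nat.card_eq_fintype_card] at hfs
      rw [Nat.card_eq_fintype_card, Fintype.card_subtype_compl, hfs]
      show _ = Nat.card Ω - f
      rw [Nat.card_eq_fintype_card]
    have e : Nat.card (Σ s : I, {x : Ω // s.1 • x ≠ x}) =
        Nat.card (Σ p : {p : Ω × Ω // p.1 ≠ p.2}, {s : G // Fixd Ω s ∧ s • p.1.1 = p.1.2}) :=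
      Nat.card_congr
        { toFun := fun q => ⟨⟨(q.2.1, q.1.1 • q.2.1), fun e => q.2.2 e.symm⟩, ⟨q.1.1, q.1.2, rfl⟩⟩
          invFun := fun q => ⟨⟨q.2.1, q.2.2.1⟩, ⟨q.1.1.1, fun e => q.1.2 (e.symm.trans q.2.2.2)⟩⟩
          left_inv := fun _ => rfl
          right_inv := fun q => by
            obtain ⟨⟨⟨x, y⟩, hxy⟩, ⟨s, hs, hy⟩⟩ := q
            dsimp only at hy
            subst hy
            rfl }
    rw [Nat.card_sigma, Nat.card_sigma, Finset.sum_congr rfl (fun s _ => hmv s),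
      Finset.sum_congr rfl (fun p _ => hfib p)] at e
    simp only [Finset.sum_const, Finset.card_univ, smul_eq_mul] at e
    rw [← Nat.card_eq_fintype_card, ← Nat.card_eq_fintype_card, card_pairs] at e
    exact e
  have hI : 0 < Nat.card I := Nat.card_pos_iff.mpr ⟨⟨⟨t, hFt⟩⟩, inferInstance⟩
  have h3 : N - f = f * (f - 1) * s1 := by
    refine Nat.eq_of_mul_eq_mul_left hI ?_
    rw [e2, ← e1]
    ring
  have hle : f ≤ N := Nat.card_le_card_of_injective _ Subtype.val_injective
  omega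

end Hyp

end Cfsg.Agent.CycZ
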