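import Cfsg.Agent.Lib.CycZ.Defs

/-!
# Properties of groups like `PGL(2, p)` on the projective line
-/

set_option autoImplicit false
set_option linter.unusedSectionVars false
set_option linter.style.haveILetI false

namespace Cfsg.Agent.CycZ

open MulAction Cfsg.Agent.Zass
open scoped Classical

universe u v

variable {G : Type u} [Group G] [Finite G] {Ω : Type v} [MulAction G Ω] [Fintype Ω]

theorem card_ne_ne {a b : Ω} (hab : a ≠ b) :
    Nat.card {y : Ω // y ≠ a ∧ y ≠ b} = Nat.card Ω - 2 := by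
  rw [Nat.card_eq_fintype_card, Fintype.card_subtype,
    show (Finset.univ.filter fun y : Ω => y ≠ a ∧ y ≠ b) = (Finset.univ : Finset Ω) \ {a, b} by
      ext y; simp, Finset.card_sdiff_of_subset (Finset.subset_univ _), Finset.card_pair hab,
    Finset.card_univ, Nat.card_eq_fintype_card]

namespace Dih

variable (hd : Dih G Ω)
include hd

theorem exists_third (a b : Ω) : ∃ c : Ω, c ≠ a ∧ c ≠ b := by
  have h4 := hd.four
  rw [Nat.card_eq_fintype_card, ← Finset.card_univ] at h4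
  have h2 := Finset.card_le_two (a := a) (b := b)
  obtain ⟨c, -, hc⟩ := Finset.exists_mem_notMem_of_card_lt_card
    (s := ({a, b} : Finset Ω)) (t := Finset.univ) (by omega)
  simp only [Finset.mem_insert, Finset.mem_singleton, not_or] at hc
  exact ⟨c, hc⟩

theorem move {a b p q : Ω} (hab : a ≠ b) (hpq : p ≠ q) : ∃ g : G, g • a = p ∧ g • b = q := by
  obtain ⟨c, hca, hcb⟩ := hd.exists_third a b
  obtain ⟨r, hrp, hrq⟩ := hd.exists_third p q
  obtain ⟨g, g1, g2, -⟩ := hd.three hab hca.symm hcb.symm hpq hrp.symm hrq.symm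
  exact ⟨g, g1, g2⟩

theorem free {a b c : Ω} (hab : a ≠ b) (hca : c ≠ a) (hcb : c ≠ b) {g : G}
    (hg : g ∈ Zass.two (G := G) a b) (hc : g • c = c) : g = 1 :=
  hd.triv hab hca.symm hcb.symm g (mem_two.mp hg).1 (mem_two.mp hg).2 hc

theorem card_two {a b : Ω} (hab : a ≠ b) :
    Nat.card (Zass.two (G := G) a b) = Nat.card Ω - 2 := by
  obtain ⟨c, hca, hcb⟩ := hd.exists_third a b
  rw [← card_ne_ne hab]
  have hmem : ∀ x : Zass.two (G := G) a b, (x : G) • c ≠ a ∧ (x : G) • c ≠ b := fun x =>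
    ⟨fun e => hca ((smul_left_cancel_iff (x : G)).mp (e.trans (mem_two.mp x.2).1.symm)),
      fun e => hcb ((smul_left_cancel_iff (x : G)).mp (e.trans (mem_two.mp x.2).2.symm))⟩
  refine Nat.card_eq_of_bijective
    (fun x : Zass.two (G := G) a b => (⟨(x : G) • c, hmem x⟩ : {y : Ω // y ≠ a ∧ y ≠ b}))
    ⟨fun x y e => ?_, fun d => ?_⟩
  · have e' : (x : G) • c = (y : G) • c := congrArg Subtype.val e
    refine inv_mul_eq_one.mp (Subtype.ext (hd.free hab hca hcb (x⁻¹ * y).2 ?_))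
    rw [Subgroup.coe_mul, Subgroup.coe_inv, mul_smul, ← e', inv_smul_smul]
  · obtain ⟨g, g1, g2, g3⟩ := hd.three hab hca.symm hcb.symm hab d.2.1.symm d.2.2.symm
    exact ⟨⟨g, mem_two.mpr ⟨g1, g2⟩⟩, Subtype.ext g3⟩

theorem fx_two {a b : Ω} (hab : a ≠ b) {g : G} (hg : g ∈ Zass.two (G := G) a b) (h1 : g ≠ 1) :
    fx Ω g = 2 := by
  rw [fx, Nat.card_eq_fintype_card, Fintype.card_subtype,
    show (Finset.univ.filter fun x : Ω => g • x = x) = {a, b} from ?_, Finset.card_pair hab]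
  ext x
  simp only [Finset.mem_filter, Finset.mem_univ, true_and, Finset.mem_insert, Finset.mem_singleton]
  refine ⟨fun hx => ?_, ?_⟩
  · by_contra hne
    push Not at hne
    exact h1 (hd.free hab hne.1 hne.2 hg hx)
  · rintro (rfl | rfl)
    · exact (mem_two.mp hg).1
    · exact (mem_two.mp hg).2

/-- A generator of a two-point stabiliser is odd. -/
theorem exists_odd_gen (hn : Even (Nat.card Ω)) {a b : Ω} (hab : a ≠ b) :
    ∃ r ∈ Zass.two (G := G) a b, sgn Ω r = -1 ∧ ∀ x ∈ Zass.two (G := G) a b, ∃ i : ℕ, r ^ i = x := by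
  haveI := hd.cyc hab
  obtain ⟨r, hr⟩ := IsCyclic.exists_ofOrder_eq_natCard (α := Zass.two (G := G) a b)
  have h4 := hd.four
  have hcard := hd.card_two hab
  have hrc : orderOf (r : G) = Nat.card Ω - 2 := by rw [Subgroup.orderOf_coe, hr, hcard]
  have hr1 : (r : G) ≠ 1 := fun e => by rw [e, orderOf_one] at hrc; omega
  refine ⟨r, r.2, ?_, fun x hx => ?_⟩
  · rw [sgn_uniform (r : G) (Nat.card Ω - 2) (by omega) (by rw [← hrc, pow_orderOf_eq_one])
      (fun x hx i hi => ?_), hd.fx_two hab r.2 hr1, Nat.div_self (by omega)]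
    · exact Odd.neg_one_pow (by obtain ⟨k, hk⟩ := hn; exact ⟨k - 1, by omega⟩)
    · rw [← hrc]
      refine orderOf_dvd_of_pow_eq_one (hd.free hab (fun e => hx ?_) (fun e => hx ?_)
        (Subgroup.pow_mem _ r.2 i) hi)
      · rw [e, (mem_two.mp r.2).1]
      · rw [e, (mem_two.mp r.2).2]
  · have htop := Subgroup.eq_top_of_card_eq (Subgroup.zpowers r) (by rw [Nat.card_zpowers, hr])
    obtain ⟨i, hi⟩ := mem_powers_iff_mem_zpowers.mpr
      (htop ▸ Subgroup.mem_top (⟨x, hx⟩ : Zass.two (G := G) a b) : _ ∈ Subgroup.zpowers r)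
    exact ⟨i, congrArg Subtype.val hi⟩

theorem fx_invol (hn : Even (Nat.card Ω)) {g : G} (hg : g * g = 1) (h1 : g ≠ 1) :
    fx Ω g = 0 ∨ fx Ω g = 2 := by
  have hp := fx_parity (Ω := Ω) hg
  rw [Nat.even_iff.mp hn] at hp
  have hle : fx Ω g ≤ 2 := by
    by_contra hlt
    rw [fx, Nat.card_eq_fintype_card, Fintype.card_subtype] at hlt
    obtain ⟨x, y, z, hx, hy, hz, hxy, hxz, hyz⟩ := Finset.two_lt_card_iff.mp (not_le.mp hlt)
    simp only [Finset.mem_filter, Finset.mem_univ, true_and] at hx hy hz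
    exact h1 (hd.triv hxy hxz hyz g hx hy hz)
  omega

theorem swap_ne_one {a b : Ω} (hab : a ≠ b) {g : G} (h : g • a = b) : g ≠ 1 := fun e => by
  rw [e, one_smul] at h
  exact hab h

/-- Among the elements interchanging two points the sign detects fixed-point-freeness. -/
theorem sgn_swap (hn : Even (Nat.card Ω)) {a b : Ω} (hab : a ≠ b) {g : G} (h1 : g • a = b)
    (h2 : g • b = a) : (∀ x : Ω, g • x ≠ x) ↔ sgn Ω g = (-1 : ℤˣ) ^ (Nat.card Ω / 2) := by
  have hgg := hd.swap hab g h1 h2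
  have h4 := hd.four
  obtain ⟨k, hk⟩ := hn
  rw [sgn_invol hgg]
  rcases hd.fx_invol ⟨k, hk⟩ hgg (hd.swap_ne_one hab h1) with hf | hf
  · refine iff_of_true (fun x hx => ?_) (by rw [hf]; exact neg_one_pow_congr (by omega))
    have : 0 < fx Ω g := Nat.card_pos_iff.mpr ⟨⟨⟨x, hx⟩⟩, inferInstance⟩
    omega
  · refine iff_of_false (fun hfree => ?_) (fun e => ?_)
    · have : IsEmpty {x : Ω // g • x = x} := ⟨fun x => hfree x.1 x.2⟩
      rw [fx, Nat.card_of_isEmpty] at hf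
      omega
    · have := neg_one_pow_inj e
      rw [hf] at this
      omega

/-- Fixed-point-free involutions are conjugate. -/
theorem fpf_isConj (hn : Even (Nat.card Ω)) {x y : G} (hx : x * x = 1) (hy : y * y = 1)
    (hxf : ∀ c : Ω, x • c ≠ c) (hyf : ∀ c : Ω, y • c ≠ c) : IsConj x y := by
  have h4 := hd.four
  haveI : Nonempty Ω := (Nat.card_pos_iff.mp (by omega : 0 < Nat.card Ω)).1
  obtain ⟨a⟩ := ‹Nonempty Ω›
  set b := x • a with hb
  have hab : a ≠ b := fun e => hxf a e.symm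
  have hxb : x • b = a := by rw [hb, ← mul_smul, hx, one_smul]
  obtain ⟨c, c1, c2⟩ := hd.move (a := a) (b := y • a) (fun e => hyf a e.symm) hab
  set y' := c * y * c⁻¹ with hy'
  have hy'a : y' • a = b := by rw [hy', mul_smul, mul_smul, inv_smul_eq_iff.mpr c1.symm, c2]
  have hy'b : y' • b = a := by
    rw [hy', mul_smul, mul_smul, inv_smul_eq_iff.mpr c2.symm, ← mul_smul y y, hy, one_smul, c1]
  have hy'f : ∀ d : Ω, y' • d ≠ d := fun d e => hyf (c⁻¹ • d) (by
    rw [hy', mul_smul, mul_smul] at e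
    exact eq_inv_smul_iff.mpr e)
  obtain ⟨r, hrT, hr, hgen⟩ := hd.exists_odd_gen hn hab
  have hT : x * y' ∈ Zass.two (G := G) a b := by
    rw [mem_two, mul_smul x y' a, mul_smul x y' b, hy'a, hy'b, hxb]
    exact ⟨rfl, hb.symm⟩
  obtain ⟨i, hi⟩ := hgen _ hT
  have hsgn : sgn Ω (x * y') = 1 := by
    rw [map_mul, (hd.sgn_swap hn hab hb.symm hxb).mp hxf, (hd.sgn_swap hn hab hy'a hy'b).mp hy'f,
      ← pow_add, Even.neg_one_pow ⟨_, rfl⟩]
  rw [← hi, map_pow, hr] at hsgn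
  have heven := neg_one_pow_inj (a := i) (b := 0) (by rw [hsgn, pow_zero])
  obtain ⟨j, rfl⟩ : Even i := Nat.even_iff.mpr (by omega)
  set s := r ^ j with hs
  have hss : x * y' = s * s := by rw [← hi, ← pow_add]
  have hsT : s ∈ Zass.two (G := G) a b := Subgroup.pow_mem _ hrT j
  have hinv : x * s * (x * s) = 1 := hd.swap hab _
    (by rw [mul_smul, (mem_two.mp hsT).1]) (by rw [mul_smul, (mem_two.mp hsT).2, hxb])
  refine IsConj.trans ?_ (isConj_iff.mpr ⟨c, hy'.symm⟩).symm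
  refine isConj_iff.mpr ⟨s⁻¹, ?_⟩
  have h1 : y' = x * (s * s) := by rw [← hss, ← mul_assoc, hx, one_mul]
  rw [inv_inv, h1]
  calc s⁻¹ * x * s = s⁻¹ * (x * s) := mul_assoc _ _ _
    _ = s⁻¹ * (x * s)⁻¹ * 1 := by rw [inv_eq_of_mul_eq_one_right hinv, mul_one]
    _ = s⁻¹ * s⁻¹ * x⁻¹ := by group
    _ = (x * (s * s))⁻¹ := by group
    _ = x * (s * s) := inv_eq_of_mul_eq_one_right (hd.swap hab _ (h1 ▸ hy'a) (h1 ▸ hy'b))

/-- Exactly half of the elements interchanging two points have no fixed point. -/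
theorem card_fpf_swap (hn : Even (Nat.card Ω)) {a b : Ω} (hab : a ≠ b) :
    2 * Nat.card {g : G // g • a = b ∧ g • b = a ∧ ∀ x : Ω, g • x ≠ x} = Nat.card Ω - 2 := by
  letI : Fintype G := Fintype.ofFinite G
  obtain ⟨r, hrT, hr, -⟩ := hd.exists_odd_gen hn hab
  obtain ⟨hra, hrb⟩ := mem_two.mp hrT
  have hra' : r⁻¹ • a = a := inv_smul_eq_iff.mpr hra.symm
  have hrb' : r⁻¹ • b = b := inv_smul_eq_iff.mpr hrb.symm
  let σ : ℤˣ := (-1 : ℤˣ) ^ (Nat.card Ω / 2)
  obtain ⟨c, hca, hcb⟩ := hd.exists_third a b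
  obtain ⟨y0, y1, y2, -⟩ := hd.three hab hca.symm hcb.symm hab.symm hcb.symm hca.symm
  let Sw := {g : G // g • a = b ∧ g • b = a}
  have hSw : Nat.card Sw = Nat.card Ω - 2 := by
    rw [← hd.card_two hab]
    refine Nat.card_congr
      { toFun := fun g => ⟨y0⁻¹ * g.1, mem_two.mpr ⟨by rw [mul_smul, g.2.1, inv_smul_eq_iff, y1],
          by rw [mul_smul, g.2.2, inv_smul_eq_iff, y2]⟩⟩
        invFun := fun x => ⟨y0 * x.1, by rw [mul_smul, (mem_two.mp x.2).1, y1],
          by rw [mul_smul, (mem_two.mp x.2).2, y2]⟩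
        left_inv := fun g => Subtype.ext (mul_inv_cancel_left _ _)
        right_inv := fun x => Subtype.ext (inv_mul_cancel_left _ _) }
  have e1 : {g : G // g • a = b ∧ g • b = a ∧ ∀ x : Ω, g • x ≠ x} ≃ {g : Sw // sgn Ω g.1 = σ} :=
    { toFun := fun g => ⟨⟨g.1, g.2.1, g.2.2.1⟩, (hd.sgn_swap hn hab g.2.1 g.2.2.1).mp g.2.2.2⟩
      invFun := fun g => ⟨g.1.1, g.1.2.1, g.1.2.2, (hd.sgn_swap hn hab g.1.2.1 g.1.2.2).mpr g.2⟩
      left_inv := fun _ => rfl
      right_inv := fun _ => rfl }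
  have hr' : sgn Ω r⁻¹ = -1 := by rw [map_inv, hr]; rfl
  have e2 : {g : Sw // sgn Ω g.1 = σ} ≃ {g : Sw // ¬ sgn Ω g.1 = σ} :=
    { toFun := fun g => ⟨⟨g.1.1 * r, by rw [mul_smul, hra, g.1.2.1], by rw [mul_smul, hrb, g.1.2.2]⟩,
        by
          show ¬ sgn Ω (g.1.1 * r) = σ
          rw [map_mul, g.2, hr, mul_neg_one]
          exact Int.units_ne_iff_eq_neg.mpr rfl⟩
      invFun := fun g => ⟨⟨g.1.1 * r⁻¹, by rw [mul_smul, hra', g.1.2.1],
        by rw [mul_smul, hrb', g.1.2.2]⟩, by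
          show sgn Ω (g.1.1 * r⁻¹) = σ
          rw [map_mul, hr', Int.units_ne_iff_eq_neg.mp g.2, mul_neg_one, neg_neg]⟩
      left_inv := fun g => Subtype.ext (Subtype.ext (mul_inv_cancel_right _ _))
      right_inv := fun g => Subtype.ext (Subtype.ext (inv_mul_cancel_right _ _)) }
  have hsum : Nat.card {g : Sw // sgn Ω g.1 = σ} + Nat.card {g : Sw // ¬ sgn Ω g.1 = σ} =
      Nat.card Sw := by
    rw [← Nat.card_sum]
    exact Nat.card_congr (Equiv.sumCompl _)
  rw [Nat.card_congr e2.symm, hSw] at hsum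
  rw [Nat.card_congr e1]
  omega

end Dih

end Cfsg.Agent.CycZ
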