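import Cfsg.Agent.Lib.CycZ.Main
import Cfsg.Agent.Lib.Components.Fitting
import Cfsg.Agent.S3559
import Cfsg.Agent.S0675
import Cfsg.Agent.S3972
import Cfsg.Agent.S0732
import Mathlib.GroupTheory.GroupAction.Primitive
import Mathlib.LinearAlgebra.Matrix.GeneralLinearGroup.Projective

/-!
# Groups which are products of a cyclic group and a Z-group
-/

set_option autoImplicit false
set_option linter.unusedSectionVars false
set_option linter.style.haveILetI false
set_option linter.unusedSimpArgs false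

namespace Cfsg.Agent.CycZ

open MulAction Cfsg.Agent.Zass
open scoped Classical Pointwise

universe u v

variable {G : Type u} [Group G] [Finite G]

theorem card_of_factor {A B : Subgroup G} (h : ∀ g : G, ∃ a ∈ A, ∃ b ∈ B, g = a * b) :
    Nat.card A * Nat.card B = Nat.card G * Nat.card (A ⊓ B : Subgroup G) := by
  have e : MulAction.stabilizer A ((1 : G) : G ⧸ B) = (A ⊓ B).subgroupOf A := by
    ext x
    rw [mem_stabilizer_iff, Subgroup.mem_subgroupOf, Subgroup.mem_inf]
    refine Iff.trans (QuotientGroup.eq.trans ?_) (iff_and_self.mpr fun _ => x.2).symm.symm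
    simp [Subgroup.smul_def]
  have horb : MulAction.orbit A ((1 : G) : G ⧸ B) = Set.univ := by
    refine Set.eq_univ_of_forall fun q => ?_
    induction q using QuotientGroup.induction_on with
    | H g =>
      obtain ⟨a, ha, b, hb, rfl⟩ := h g
      refine ⟨⟨a, ha⟩, QuotientGroup.eq.mpr ?_⟩
      simpa [Subgroup.smul_def] using hb
  have h1 := Subgroup.index_mul_card (MulAction.stabilizer A ((1 : G) : G ⧸ B))
  rw [MulAction.index_stabilizer, horb, Set.ncard_univ, e,
    Nat.card_congr (Subgroup.subgroupOfEquivOfLe inf_le_left).toEquiv] at h1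
  rw [← h1, ← Subgroup.index_mul_card B]
  show B.index * Nat.card (A ⊓ B : Subgroup G) * Nat.card B = _
  ring

theorem factor_of_card {A B : Subgroup G}
    (h : Nat.card G * Nat.card (A ⊓ B : Subgroup G) ≤ Nat.card A * Nat.card B) :
    ∀ g : G, ∃ a ∈ A, ∃ b ∈ B, g = a * b := by
  have e : MulAction.stabilizer A ((1 : G) : G ⧸ B) = (A ⊓ B).subgroupOf A := by
    ext x
    rw [mem_stabilizer_iff, Subgroup.mem_subgroupOf, Subgroup.mem_inf]
    refine Iff.trans (QuotientGroup.eq.trans ?_) (iff_and_self.mpr fun _ => x.2)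
    simp [Subgroup.smul_def]
  have h1 := Subgroup.index_mul_card (MulAction.stabilizer A ((1 : G) : G ⧸ B))
  rw [MulAction.index_stabilizer, e,
    Nat.card_congr (Subgroup.subgroupOfEquivOfLe inf_le_left).toEquiv] at h1
  have horb : MulAction.orbit A ((1 : G) : G ⧸ B) = Set.univ := by
    refine Set.eq_of_subset_of_ncard_le (Set.subset_univ _) ?_
    rw [Set.ncard_univ]
    refine Nat.le_of_mul_le_mul_right ?_
      (Nat.mul_pos (Nat.card_pos (α := B)) (Nat.card_pos (α := (A ⊓ B : Subgroup G))))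
    calc Nat.card (G ⧸ B) * (Nat.card B * Nat.card (A ⊓ B : Subgroup G))
        = Nat.card G * Nat.card (A ⊓ B : Subgroup G) := by
          rw [← mul_assoc, ← B.card_eq_card_quotient_mul_card_subgroup]
      _ ≤ Nat.card A * Nat.card B := h
      _ = _ := by rw [← h1]; ring
  intro g
  obtain ⟨a, ha⟩ : ((g : G ⧸ B)) ∈ MulAction.orbit A ((1 : G) : G ⧸ B) := horb ▸ Set.mem_univ _
  refine ⟨a, a.2, (a : G)⁻¹ * g, ?_, (mul_inv_cancel_left _ _).symm⟩
  have := QuotientGroup.eq.mp ha
  simpa [Subgroup.smul_def] using this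

/-- A noncyclic 2-group maps onto a group of order 4 and exponent 2. -/
theorem exists_four_quotient {K : Type u} [Group K] [Finite K] (hK : IsPGroup 2 K)
    (hc : ¬ IsCyclic K) : ∃ (Q : Type u) (_ : Group Q) (f : K →* Q),
      Function.Surjective f ∧ Nat.card Q = 4 ∧ ∀ x : Q, x ^ 2 = 1 := by
  haveI : Fact (Nat.Prime 2) := ⟨Nat.prime_two⟩
  obtain ⟨k, hk⟩ := IsPGroup.iff_card.mp hK
  have hk1 : 0 < k := by
    by_contra h0
    rw [show k = 0 by omega, pow_zero] at hk
    haveI := (Nat.card_eq_one_iff_unique.mp hk).1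
    exact hc inferInstance
  have hdvd : 2 ^ (k - 1) ∣ Nat.card K := hk ▸ pow_dvd_pow 2 (by omega)
  have hidx : ∀ M : Subgroup K, Nat.card M = 2 ^ (k - 1) → M.index = 2 := fun M hM => by
    have := Subgroup.card_mul_index M
    rw [hM, hk, show 2 ^ k = 2 ^ (k - 1) * 2 by rw [← pow_succ, Nat.sub_add_cancel hk1]] at this
    exact Nat.eq_of_mul_eq_mul_left (by positivity) this
  obtain ⟨M1, hM1⟩ := Sylow.exists_subgroup_card_pow_prime 2 hdvd
  obtain ⟨x, -, hx⟩ := SetLike.exists_of_lt (lt_top_iff_ne_top.mpr fun e : M1 = ⊤ => by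
    have := hidx M1 hM1
    rw [e, Subgroup.index_top] at this
    omega)
  obtain ⟨j, hj, hjc⟩ := (Nat.dvd_prime_pow Nat.prime_two).mp (hk ▸ orderOf_dvd_natCard x)
  have hjk : j ≤ k - 1 := by
    by_contra hlt
    exact hc (isCyclic_of_orderOf_eq_card x (by rw [hjc, hk, show j = k by omega]))
  obtain ⟨M2, hM2, hxM2⟩ := Sylow.exists_subgroup_card_pow_prime_le 2 hdvd (Subgroup.zpowers x)
    (by rw [Nat.card_zpowers, hjc]) hjk
  haveI := Subgroup.normal_of_index_eq_two (hidx M1 hM1)
  haveI := Subgroup.normal_of_index_eq_two (hidx M2 hM2)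
  have hsq : ∀ (M : Subgroup K) [M.Normal], M.index = 2 → ∀ y : K ⧸ M, y ^ 2 = 1 := fun M _ hM y => by
    rw [← hM, Subgroup.index_eq_card, pow_card_eq_one']
  let f : K →* (K ⧸ M1) × (K ⧸ M2) := (QuotientGroup.mk' M1).prod (QuotientGroup.mk' M2)
  have hQ : Nat.card ((K ⧸ M1) × (K ⧸ M2)) = 4 := by
    rw [Nat.card_prod, ← Subgroup.index_eq_card, ← Subgroup.index_eq_card, hidx M1 hM1, hidx M2 hM2]
  refine ⟨_, inferInstance, f, ?_, hQ, fun y => Prod.ext ?_ ?_⟩
  · rw [← MonoidHom.range_eq_top]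
    refine Subgroup.eq_top_of_card_eq _ ?_
    rw [hQ, ← Subgroup.index_ker]
    have hlt : f.ker < M1 := by
      refine lt_of_le_of_ne (fun y hy => ?_) fun e => hx ?_
      · exact (QuotientGroup.eq_one_iff y).mp (congrArg Prod.fst (MonoidHom.mem_ker.mp hy))
      · have hle : M1 ≤ M2 := fun y hy => (QuotientGroup.eq_one_iff y).mp
          (congrArg Prod.snd (MonoidHom.mem_ker.mp (e.symm ▸ hy : y ∈ f.ker)))
        rw [Subgroup.eq_of_le_of_card_ge hle (by rw [hM1, hM2])]
        exact hxM2 (Subgroup.mem_zpowers x)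
    have h1 := Subgroup.index_strictAnti hlt
    have h2 : M1.index ∣ f.ker.index := Subgroup.index_dvd_of_le hlt.le
    have h3 : f.ker.index ≤ 4 := by
      rw [Subgroup.index_ker, ← hQ]
      exact Subgroup.card_le_card_group _
    rw [hidx M1 hM1] at h1 h2
    omega
  · exact hsq M1 (hidx M1 hM1) y.1
  · exact hsq M2 (hidx M2 hM2) y.2

/-- A Sylow 2-subgroup of a product of a cyclic group and a Z-group is generated by two elements. -/
theorem exists_two_gen_sylow {A B : Subgroup G} [IsCyclic A] [IsZGroup B]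
    (h : ∀ g : G, ∃ a ∈ A, ∃ b ∈ B, g = a * b) :
    ∃ S : Sylow 2 G, ∃ a b : G, a ∈ S ∧ b ∈ S ∧ ∀ x ∈ S, ∃ i j : ℕ, x = a ^ i * b ^ j := by
  haveI : Fact (Nat.Prime 2) := ⟨Nat.prime_two⟩
  let A2 : Sylow 2 A := default
  let B2 : Sylow 2 B := default
  obtain ⟨S0, hS0⟩ := (A2.2.map A.subtype).exists_le_sylow
  obtain ⟨S1, hS1⟩ := (B2.2.map B.subtype).exists_le_sylow
  obtain ⟨g, hg⟩ := MulAction.exists_smul_eq G S0 S1
  obtain ⟨a', ha', b', hb', he⟩ := h g⁻¹
  set S := a'⁻¹ • S0 with hSdef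
  have hAc : ∀ x ∈ A, ∀ y ∈ A, x * y = y * x := fun x hx y hy =>
    congrArg Subtype.val (mul_comm' (⟨x, hx⟩ : A) ⟨y, hy⟩)
  have hAS : (A2 : Subgroup A).map A.subtype ≤ (S : Subgroup G) := by
    rintro _ ⟨x, hx, rfl⟩
    have hx0 : (x : G) ∈ (S0 : Subgroup G) := hS0 ⟨x, hx, rfl⟩
    have e : MulAut.conj a'⁻¹ (x : G) = x := by
      rw [MulAut.conj_apply, inv_inv, mul_assoc, hAc _ x.2 _ ha', inv_mul_cancel_left]
    rw [hSdef, Sylow.coe_subgroup_smul]
    show (x : G) ∈ MulAut.conj a'⁻¹ • (S0 : Subgroup G)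
    rw [← e]
    exact Subgroup.smul_mem_pointwise_smul _ _ _ hx0
  have hS1' : S1 = b'⁻¹ • S := by
    rw [hSdef, ← mul_smul, ← mul_inv_rev, ← he, inv_inv, hg]
  have hBS : ∀ x ∈ (B2 : Subgroup B).map B.subtype, b' * x * b'⁻¹ ∈ (S : Subgroup G) ⊓ B := by
    rintro _ ⟨x, hx, rfl⟩
    refine ⟨?_, B.mul_mem (B.mul_mem hb' x.2) (B.inv_mem hb')⟩
    have hx1 : (x : G) ∈ (S1 : Subgroup G) := hS1 ⟨x, hx, rfl⟩
    rw [hS1', Sylow.coe_subgroup_smul, Subgroup.mem_pointwise_smul_iff_inv_smul_mem] at hx1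
    simp [MulAut.smul_def, mul_assoc] at hx1
    rw [mul_assoc]
    exact hx1
  have hAcard : 2 ^ (Nat.card A).factorization 2 ≤ Nat.card ((S : Subgroup G) ⊓ A : Subgroup G) := by
    rw [← A2.card_eq_multiplicity, ← Subgroup.card_map_of_injective A.subtype_injective]
    exact Subgroup.card_le_of_le (le_inf hAS (Subgroup.map_subtype_le _))
  have hBcard : 2 ^ (Nat.card B).factorization 2 ≤ Nat.card ((S : Subgroup G) ⊓ B : Subgroup G) := by
    rw [← B2.card_eq_multiplicity, ← Subgroup.card_map_of_injective B.subtype_injective]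
    exact Nat.card_le_card_of_injective
      (fun x : (B2 : Subgroup B).map B.subtype =>
        (⟨b' * x * b'⁻¹, hBS x x.2⟩ : ((S : Subgroup G) ⊓ B : Subgroup G)))
      fun x y e => Subtype.ext (mul_left_cancel (mul_right_cancel (congrArg Subtype.val e)))
  have hcard := card_of_factor h
  have hABcard : Nat.card (((S : Subgroup G) ⊓ A) ⊓ ((S : Subgroup G) ⊓ B) : Subgroup G) ≤
      2 ^ (Nat.card (A ⊓ B : Subgroup G)).factorization 2 := by
    obtain ⟨k, hk⟩ := IsPGroup.iff_card.mp
      (S.2.to_le (inf_le_left.trans inf_le_left) :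
        IsPGroup 2 (((S : Subgroup G) ⊓ A) ⊓ ((S : Subgroup G) ⊓ B) : Subgroup G))
    rw [hk]
    refine Nat.pow_le_pow_right two_pos
      ((Nat.prime_two.pow_dvd_iff_le_factorization Nat.card_pos.ne').mp ?_)
    rw [← hk]
    exact Subgroup.card_dvd_of_le (le_inf (inf_le_left.trans inf_le_right) (inf_le_right.trans inf_le_right))
  set HA := ((S : Subgroup G) ⊓ A).subgroupOf (S : Subgroup G)
  set HB := ((S : Subgroup G) ⊓ B).subgroupOf (S : Subgroup G)
  have hfac : ∀ x : (S : Subgroup G), ∃ a ∈ HA, ∃ b ∈ HB, x = a * b := by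
    refine factor_of_card ?_
    rw [Nat.card_congr (Subgroup.subgroupOfEquivOfLe inf_le_left).toEquiv,
      Nat.card_congr (Subgroup.subgroupOfEquivOfLe inf_le_left).toEquiv,
      show HA ⊓ HB = (((S : Subgroup G) ⊓ A) ⊓ ((S : Subgroup G) ⊓ B)).subgroupOf S from rfl,
      Nat.card_congr (Subgroup.subgroupOfEquivOfLe (inf_le_left.trans inf_le_left)).toEquiv,
      S.card_eq_multiplicity]
    refine le_trans (Nat.mul_le_mul_left _ hABcard) (le_trans (le_of_eq ?_) (Nat.mul_le_mul hAcard hBcard))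
    rw [← pow_add, ← pow_add]
    congr 1
    have := congrArg (fun n : ℕ => n.factorization 2) hcard
    simp only [Nat.factorization_mul Nat.card_pos.ne' Nat.card_pos.ne', Finsupp.add_apply] at this
    omega
  have hcyc : ∀ H : Subgroup G, IsCyclic ((S : Subgroup G) ⊓ H : Subgroup G) →
      ∃ x ∈ (S : Subgroup G), ∀ y ∈ (S : Subgroup G) ⊓ H, ∃ i : ℕ, x ^ i = y := by
    intro H hH
    obtain ⟨x, hx⟩ := hH.exists_generator
    exact ⟨x, x.2.1, fun y hy => by
      obtain ⟨i, hi⟩ := mem_powers_iff_mem_zpowers.mpr (hx ⟨y, hy⟩)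
      exact ⟨i, congrArg Subtype.val hi⟩⟩
  obtain ⟨a, ha, hagen⟩ := hcyc A (isCyclic_of_injective
    (Subgroup.inclusion (inf_le_right : (S : Subgroup G) ⊓ A ≤ A))
    (Subgroup.inclusion_injective _))
  obtain ⟨b, hb, hbgen⟩ := hcyc B (by
    have hle : (S : Subgroup G) ⊓ B ≤ B := inf_le_right
    haveI := ((S.2.to_le (inf_le_left : (S : Subgroup G) ⊓ B ≤ S)).of_equiv
      (Subgroup.subgroupOfEquivOfLe hle).symm).isCyclic_of_isZGroup
    exact isCyclic_of_surjective (Subgroup.subgroupOfEquivOfLe hle).toMonoidHom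
      (Subgroup.subgroupOfEquivOfLe hle).surjective)
  refine ⟨S, a, b, ha, hb, fun x hx => ?_⟩
  obtain ⟨y, hy, z, hz, e⟩ := hfac ⟨x, hx⟩
  obtain ⟨i, hi⟩ := hagen y hy
  obtain ⟨j, hj⟩ := hbgen z hz
  exact ⟨i, j, by rw [hi, hj]; exact congrArg Subtype.val e⟩

/-- A product of a cyclic group and a Z-group is not a direct product of two nonsolvable groups. -/
theorem not_direct {A B : Subgroup G} [IsCyclic A] [IsZGroup B]
    (h : ∀ g : G, ∃ a ∈ A, ∃ b ∈ B, g = a * b) (N C : Subgroup G) [hN : N.Normal] [hC : C.Normal]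
    (hd : N ⊓ C = ⊥) (hu : N ⊔ C = ⊤) (hNs : ¬ Group.IsSolvable N) (hCs : ¬ Group.IsSolvable C) :
    False := by
  haveI : Fact (Nat.Prime 2) := ⟨Nat.prime_two⟩
  have hcomm : ∀ x ∈ N, ∀ y ∈ C, x * y = y * x := fun x hx y hy =>
    (Subgroup.commute_of_normal_of_disjoint N C hN hC (disjoint_iff.mpr hd) x y hx hy).eq
  let e : N × C →* G :=
    { toFun := fun p => (p.1 : G) * p.2
      map_one' := by simp
      map_mul' := fun p q => by
        show ((p.1 : G) * q.1) * ((p.2 : G) * q.2) = (p.1 : G) * p.2 * ((q.1 : G) * q.2)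
        rw [mul_assoc (p.1 : G) (p.2 : G), ← mul_assoc (p.2 : G) (q.1 : G),
          ← hcomm _ q.1.2 _ p.2.2]
        group }
  have hinj : Function.Injective e := by
    rw [← MonoidHom.ker_eq_bot_iff]
    refine (Subgroup.eq_bot_iff_forall _).mpr fun p hp => ?_
    have hp' : (p.1 : G) * p.2 = 1 := hp
    have h1 : (p.1 : G) ∈ N ⊓ C := ⟨p.1.2, by rw [eq_inv_of_mul_eq_one_left hp']; exact C.inv_mem p.2.2⟩
    rw [hd, Subgroup.mem_bot] at h1
    rw [h1, one_mul] at hp'
    exact Prod.ext (Subtype.ext h1) (Subtype.ext hp')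
  have hsurj : Function.Surjective e := fun g => by
    obtain ⟨x, hx, y, hy, rfl⟩ := Subgroup.mem_sup_of_normal_left.mp (hu ▸ Subgroup.mem_top g : g ∈ N ⊔ C)
    exact ⟨(⟨x, hx⟩, ⟨y, hy⟩), rfl⟩
  let π : G ≃* N × C := (MulEquiv.ofBijective e ⟨hinj, hsurj⟩).symm
  obtain ⟨S, a, b, ha, hb, hgen⟩ := exists_two_gen_sylow h
  let p1 : G →* N := (MonoidHom.fst N C).comp π.toMonoidHom
  let p2 : G →* C := (MonoidHom.snd N C).comp π.toMonoidHom
  have hp1 : Function.Surjective p1 := Prod.fst_surjective.comp π.surjective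
  have hp2 : Function.Surjective p2 := Prod.snd_surjective.comp π.surjective
  set SN := S.mapSurjective hp1
  set SC := S.mapSurjective hp2
  have hnc : ∀ {K : Subgroup G}, ¬ Group.IsSolvable K → ∀ Q : Sylow 2 K, ¬ IsCyclic (Q : Subgroup K) :=
    fun {K} hK Q hQ =>
      hK (OddDown.MetaSol.solvable_of_cyclic (fun H _ _ hH => OddChar.oddSolvable H hH) Q hQ)
  obtain ⟨Q1, _, f1, hf1, hQ1, hQ1s⟩ := exists_four_quotient SN.2 (hnc hNs SN)
  obtain ⟨Q2, _, f2, hf2, hQ2, hQ2s⟩ := exists_four_quotient SC.2 (hnc hCs SC)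
  let r : (S : Subgroup G) →* ↥(SN : Subgroup N) × ↥(SC : Subgroup C) :=
    ((p1.comp (S : Subgroup G).subtype).codRestrict (SN : Subgroup N) fun x => show p1 x ∈ (S : Subgroup G).map p1 from ⟨x, x.2, rfl⟩).prod
      ((p2.comp (S : Subgroup G).subtype).codRestrict (SC : Subgroup C) fun x => show p2 x ∈ (S : Subgroup G).map p2 from ⟨x, x.2, rfl⟩)
  have hr : Function.Surjective r := by
    refine ((Nat.bijective_iff_injective_and_card r).mpr ⟨fun x y exy => ?_, ?_⟩).2
    · exact Subtype.ext (π.injective (Prod.ext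
        (congrArg (fun z => ((z.1 : (SN : Subgroup N)) : N)) exy)
        (congrArg (fun z => ((z.2 : (SC : Subgroup C)) : C)) exy)))
    · rw [Nat.card_prod, S.card_eq_multiplicity, SN.card_eq_multiplicity, SC.card_eq_multiplicity,
        ← pow_add, Nat.card_congr π.toEquiv, Nat.card_prod,
        Nat.factorization_mul Nat.card_pos.ne' Nat.card_pos.ne', Finsupp.add_apply]
  let ψ : (S : Subgroup G) →* Q1 × Q2 := (f1.prodMap f2).comp r
  have hψ : Function.Surjective ψ := (hf1.prodMap hf2).comp hr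
  haveI : Finite Q1 := Nat.finite_of_card_ne_zero (by omega)
  haveI : Finite Q2 := Nat.finite_of_card_ne_zero (by omega)
  have hsq : ∀ x : Q1 × Q2, x ^ 2 = 1 := fun x => Prod.ext (hQ1s x.1) (hQ2s x.2)
  have hmod : ∀ (x : Q1 × Q2) (i : ℕ), x ^ i = x ^ (i % 2) := fun x i =>
    pow_eq_pow_mod i (hsq x)
  have hle := Nat.card_le_card_of_surjective
    (fun ij : Fin 2 × Fin 2 => ψ ⟨a, ha⟩ ^ (ij.1 : ℕ) * ψ ⟨b, hb⟩ ^ (ij.2 : ℕ)) fun q => by
      obtain ⟨x, rfl⟩ := hψ q
      obtain ⟨i, j, hx⟩ := hgen x x.2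
      refine ⟨(⟨i % 2, Nat.mod_lt _ two_pos⟩, ⟨j % 2, Nat.mod_lt _ two_pos⟩), ?_⟩
      show ψ ⟨a, ha⟩ ^ (i % 2) * ψ ⟨b, hb⟩ ^ (j % 2) = ψ x
      rw [← hmod, ← hmod, ← map_pow, ← map_pow, ← map_mul]
      exact congrArg ψ (Subtype.ext hx.symm)
  simp [Nat.card_prod, hQ1, hQ2] at hle

theorem Dih.two_trans {Ω : Type v} [MulAction G Ω] [Fintype Ω] (hd : Dih G Ω) :
    MulAction.IsMultiplyPretransitive G Ω 2 :=
  is_two_pretransitive_iff.mpr fun hab hcd => hd.move hab hcd

theorem Dih.card_group {Ω : Type v} [MulAction G Ω] [Fintype Ω] (hd : Dih G Ω) {p : ℕ}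
    (hcard : Nat.card Ω = p + 1) : Nat.card G = (p + 1) * p * (p - 1) := by
  haveI : Nontrivial Ω := by
    rw [← Fintype.one_lt_card_iff_nontrivial, ← Nat.card_eq_fintype_card]
    have := hd.four
    omega
  obtain ⟨a, b, hab⟩ := exists_pair_ne Ω
  rw [card_two_trans hd.two_trans hab, hd.card_two hab, hcard, Nat.add_sub_cancel,
    show p + 1 - 2 = p - 1 by omega]

theorem Dih.eq_one {Ω : Type v} [MulAction G Ω] [Fintype Ω] (hd : Dih G Ω) {g : G}
    (hg : ∀ x : Ω, g • x = x) : g = 1 := by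
  haveI : Nontrivial Ω := by
    rw [← Fintype.one_lt_card_iff_nontrivial, ← Nat.card_eq_fintype_card]
    have := hd.four
    omega
  obtain ⟨a, b, hab⟩ := exists_pair_ne Ω
  obtain ⟨c, hca, hcb⟩ := hd.exists_third a b
  exact hd.triv hab hca.symm hcb.symm g (hg a) (hg b) (hg c)

/-- A normal subgroup like `PGL(2, p)` has a normal complement. -/
theorem exists_complement (N : Subgroup G) [N.Normal] {Ω : Type v} [MulAction N Ω] [Fintype Ω]
    (hd : Dih N Ω) {p : ℕ} (hp : p.Prime) (hcard : Nat.card Ω = p + 1) :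
    ∃ C : Subgroup G, C.Normal ∧ N ⊓ C = ⊥ ∧ N ⊔ C = ⊤ := by
  haveI : Fact p.Prime := ⟨hp⟩
  have hp3 : 3 ≤ p := by have := hd.four; omega
  have hN := hd.card_group hcard
  haveI := hd.two_trans
  haveI : MulAction.IsPretransitive N Ω := MulAction.isPretransitive_of_is_two_pretransitive
  have hstab : ∀ x : Ω, Nat.card (stabilizer N x) = p * (p - 1) := fun x => by
    refine Nat.eq_of_mul_eq_mul_left (show 0 < p + 1 by omega) ?_
    rw [← mul_assoc, ← hN, ← Subgroup.index_mul_card (stabilizer N x),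
      MulAction.index_stabilizer_of_transitive, hcard]
  have huniq : ∀ (x : Ω) (P Q : Subgroup N), P ≤ stabilizer N x → Q ≤ stabilizer N x →
      Nat.card P = p → Nat.card Q = p → P = Q := by
    intro x P Q hP hQ hPc hQc
    by_contra hne
    have hinf : P ⊓ Q = ⊥ := by
      rcases hp.eq_one_or_self_of_dvd _
        (hPc ▸ Subgroup.card_dvd_of_le (inf_le_left : P ⊓ Q ≤ P)) with e | e
      · exact Subgroup.eq_bot_of_card_eq _ e
      · refine absurd ?_ hne
        have h1 := Subgroup.eq_of_le_of_card_ge (inf_le_left : P ⊓ Q ≤ P) (by rw [e, hPc])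
        exact Subgroup.eq_of_le_of_card_ge (h1 ▸ inf_le_right) (by rw [hPc, hQc])
    have hinj : Function.Injective fun y : P × Q =>
        (⟨(y.1 : N) * y.2, (stabilizer N x).mul_mem (hP y.1.2) (hQ y.2.2)⟩ : stabilizer N x) := by
      intro y z e
      have e' : (y.1 : N) * y.2 = z.1 * z.2 := congrArg Subtype.val e
      have h1 : (z.1 : N)⁻¹ * y.1 ∈ P ⊓ Q := ⟨P.mul_mem (P.inv_mem z.1.2) y.1.2, by
        rw [show (z.1 : N)⁻¹ * y.1 = z.2 * (y.2 : N)⁻¹ by
          rw [inv_mul_eq_iff_eq_mul, ← mul_assoc, eq_mul_inv_iff_mul_eq, e']]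
        exact Q.mul_mem z.2.2 (Q.inv_mem y.2.2)⟩
      rw [hinf, Subgroup.mem_bot, inv_mul_eq_one] at h1
      rw [h1] at e'
      exact Prod.ext (Subtype.ext h1.symm) (Subtype.ext (mul_left_cancel e'))
    have := Nat.card_le_card_of_injective _ hinj
    rw [Nat.card_prod, hPc, hQc, hstab] at this
    have h2 : p - 1 < p := by omega
    have := Nat.mul_lt_mul_of_pos_left h2 hp.pos
    omega
  have hPcard : ∀ P : Sylow p N, Nat.card (P : Subgroup N) = p := fun P => by
    have h1 : ¬ p ∣ p + 1 := fun hd' => hp.not_dvd_one ((Nat.dvd_add_right dvd_rfl).mp hd')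
    have h2 : ¬ p ∣ p - 1 := fun hd' => by
      have := Nat.le_of_dvd (by omega) hd'
      omega
    rw [P.card_eq_multiplicity, hN, Nat.factorization_mul (by positivity) (by omega),
      Nat.factorization_mul (by omega) hp.ne_zero, Finsupp.add_apply, Finsupp.add_apply,
      Nat.factorization_eq_zero_of_not_dvd h1, Nat.factorization_eq_zero_of_not_dvd h2,
      hp.factorization_self, zero_add, add_zero, pow_one]
  have hnotdvd : ∀ {a b : Ω}, a ≠ b → ∀ P : Subgroup N, Nat.card P = p →
      P ≤ stabilizer N a → P ≤ stabilizer N b → False := fun {a b} hab P hP ha hb => by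
    have h1 := Subgroup.card_dvd_of_le (le_inf ha hb : P ≤ Zass.two a b)
    rw [hP, hd.card_two hab, hcard] at h1
    have := Nat.le_of_dvd (by omega) h1
    omega
  have hfix : ∀ P : Sylow p N, ∃ x : Ω, (P : Subgroup N) ≤ stabilizer N x := fun P => by
    obtain ⟨x, hx⟩ := P.2.nonempty_fixed_point_of_prime_not_dvd_card Ω
      (by rw [hcard]; exact fun hd' => hp.not_dvd_one ((Nat.dvd_add_right dvd_rfl).mp hd'))
    exact ⟨x, fun y hy => hx ⟨y, hy⟩⟩
  choose ξ hξ using hfix
  have hequiv : ∀ (m : N) (P : Sylow p N), ξ (m • P) = m • ξ P := fun m P => by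
    by_contra hne
    refine hnotdvd hne _ (hPcard (m • P)) (hξ _) fun y hy => ?_
    rw [Sylow.coe_subgroup_smul, Subgroup.mem_pointwise_smul_iff_inv_smul_mem] at hy
    have := hξ P hy
    rw [mem_stabilizer_iff, MulAut.smul_def, MulAut.conj_inv_apply, mul_smul, mul_smul,
      inv_smul_eq_iff] at this
    exact this
  have hbij : Function.Bijective ξ := by
    refine ⟨fun P Q e => Sylow.ext (huniq (ξ P) _ _ (hξ P) (e ▸ hξ Q) (hPcard P) (hPcard Q)),
      fun x => ?_⟩
    obtain ⟨m, hm⟩ := MulAction.exists_smul_eq N (ξ default) x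
    exact ⟨m • default, (hequiv m default).trans hm⟩
  let e := Equiv.ofBijective ξ hbij
  let ρ : G →* Equiv.Perm Ω := e.permCongrHom.toMonoidHom.comp
    ((MulAction.toPermHom (MulAut N) (Sylow p N)).comp MulAut.conjNormal)
  have hρN : ∀ (m : N) (x : Ω), ρ m x = m • x := fun m x => by
    show e ((MulAut.conjNormal (m : G) : MulAut N) • e.symm x) = m • x
    rw [MulAut.conjNormal_val, ← Sylow.smul_def]
    show ξ _ = _
    rw [hequiv]
    exact congrArg _ (e.apply_symm_apply x)
  have hρconj : ∀ (c : G) (m : N) (x : Ω),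
      ρ c (m • x) = MulAut.conjNormal c m • ρ c x := fun c m x => by
    rw [← hρN, ← hρN, ← Equiv.Perm.mul_apply, ← map_mul, ← Equiv.Perm.mul_apply, ← map_mul,
      MulAut.conjNormal_apply, inv_mul_cancel_right]
  refine ⟨ρ.ker, inferInstance, (Subgroup.eq_bot_iff_forall _).mpr fun x hx => ?_, ?_⟩
  · have := hd.eq_one (g := (⟨x, hx.1⟩ : N)) fun y => by
      rw [← hρN, MonoidHom.mem_ker.mp hx.2]
      rfl
    exact congrArg Subtype.val this
  refine (Subgroup.eq_top_iff' _).mpr fun g => ?_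
  haveI : Nontrivial Ω := by
    rw [← Fintype.one_lt_card_iff_nontrivial, ← Nat.card_eq_fintype_card]
    omega
  obtain ⟨a, b, hab⟩ := exists_pair_ne Ω
  obtain ⟨u, hu⟩ := exists_prime_orderOf_dvd_card' (G := stabilizer N a) p
    (by rw [hstab]; exact dvd_mul_right _ _)
  have hu' : orderOf (u : N) = p := by rw [Subgroup.orderOf_coe, hu]
  have hua : ∀ i : ℕ, (u : N) ^ i • a = a := fun i =>
    mem_stabilizer_iff.mp (Subgroup.pow_mem _ u.2 i)
  have hu1 : ∀ i : ℕ, (u : N) ^ i • b = b → (u : N) ^ i = 1 := fun i hi => by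
    by_contra hne
    have hord : orderOf ((u : N) ^ i) = p := ((hp.eq_one_or_self_of_dvd _
      (hu' ▸ orderOf_pow_dvd i)).resolve_left fun e => hne (orderOf_eq_one_iff.mp e))
    exact hnotdvd hab _ (by rw [Nat.card_zpowers, hord])
      (Subgroup.zpowers_le.mpr (hua i)) (Subgroup.zpowers_le.mpr hi)
  have hub : (u : N) • b ≠ b := fun e => by
    have := hu1 1 (by rw [pow_one]; exact e)
    rw [pow_one] at this
    rw [this, orderOf_one] at hu'
    omega
  have hub' : (u : N) • b ≠ a := fun e => hab (by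
    have h1 := hua 1
    rw [pow_one] at h1
    exact (smul_left_cancel_iff _).mp (h1.trans e.symm))
  obtain ⟨n, n1, n2, n3⟩ := hd.three hab hub'.symm hub.symm
    ((ρ g).injective.ne hab) ((ρ g).injective.ne hub'.symm) ((ρ g).injective.ne hub.symm)
  set c := (n : G)⁻¹ * g with hc
  have hcfix : ∀ x : Ω, n • x = ρ g x → ρ c x = x := fun x hx => by
    rw [hc, map_mul, Equiv.Perm.mul_apply, ← hx, ← Subgroup.coe_inv, hρN, inv_smul_smul]
  have hca := hcfix a n1
  have hcb := hcfix b n2
  set u' := MulAut.conjNormal c (u : N) with hu'def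
  have hu'a : u' • a = a := by
    have h1 := hρconj c (u : N) a
    have h2 := hua 1
    rw [pow_one] at h2
    rw [h2, hca] at h1
    exact h1.symm
  have hzz : Subgroup.zpowers u' = Subgroup.zpowers (u : N) :=
    huniq a _ _ (Subgroup.zpowers_le.mpr hu'a) (Subgroup.zpowers_le.mpr u.2)
      (by rw [Nat.card_zpowers, MulEquiv.orderOf_eq, hu']) (by rw [Nat.card_zpowers, hu'])
  obtain ⟨k, hk⟩ := mem_powers_iff_mem_zpowers.mpr (hzz ▸ Subgroup.mem_zpowers u')
  have hk' : (u : N) ^ k = u' := hk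
  have hk1 : u' = u := by
    have h1 := hρconj c (u : N) b
    rw [hcfix _ n3, hcb, ← hu'def] at h1
    have h2 : u'⁻¹ * (u : N) = 1 := by
      have hmem : u'⁻¹ * (u : N) ∈ Subgroup.zpowers (u : N) :=
        Subgroup.mul_mem _ (Subgroup.inv_mem _ (hzz ▸ Subgroup.mem_zpowers u'))
          (Subgroup.mem_zpowers _)
      obtain ⟨l, hl⟩ := mem_powers_iff_mem_zpowers.mpr hmem
      have hl' : (u : N) ^ l = u'⁻¹ * (u : N) := hl
      rw [← hl']
      refine hu1 l ?_
      rw [hl', mul_smul, h1, inv_smul_smul]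
    exact inv_mul_eq_one.mp h2
  have hc1 : ρ c = 1 := by
    refine Equiv.ext fun x => ?_
    show ρ c x = x
    by_cases hxa : x = a
    · rw [hxa, hca]
    have hinj : Function.Injective fun i : Fin p => (⟨(u : N) ^ (i : ℕ) • b, fun e =>
        hab ((smul_left_cancel_iff _).mp ((hua i).trans e.symm))⟩ : {y : Ω // y ≠ a}) := by
      intro i j hij
      have hij' : (u : N) ^ (i : ℕ) • b = (u : N) ^ (j : ℕ) • b := congrArg Subtype.val hij
      rcases Nat.le_total (i : ℕ) j with hle | hle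
      · rw [← Nat.add_sub_cancel' hle, pow_add, mul_smul, smul_left_cancel_iff] at hij'
        have hdv : p ∣ (j : ℕ) - i :=
          hu'.symm.dvd.trans (orderOf_dvd_of_pow_eq_one (hu1 _ hij'.symm))
        have := Nat.eq_zero_of_dvd_of_lt hdv (show (j : ℕ) - i < p by omega)
        exact Fin.ext (by omega)
      · rw [← Nat.add_sub_cancel' hle, pow_add, mul_smul, smul_left_cancel_iff] at hij'
        have hdv : p ∣ (i : ℕ) - j :=
          hu'.symm.dvd.trans (orderOf_dvd_of_pow_eq_one (hu1 _ hij'))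
        have := Nat.eq_zero_of_dvd_of_lt hdv (show (i : ℕ) - j < p by omega)
        exact Fin.ext (by omega)
    obtain ⟨i, hi⟩ := ((Nat.bijective_iff_injective_and_card _).mpr ⟨hinj, by
      rw [Nat.card_eq_fintype_card, Fintype.card_fin, Nat.card_eq_fintype_card,
        Fintype.card_subtype_compl, Fintype.card_subtype_eq, ← Nat.card_eq_fintype_card, hcard,
        Nat.add_sub_cancel]⟩).2 ⟨x, hxa⟩
    have hi' : (u : N) ^ (i : ℕ) • b = x := congrArg Subtype.val hi
    rw [← hi', hρconj, map_pow, ← hu'def, hk1, hcb]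
  rw [show g = (n : G) * c by rw [hc, mul_inv_cancel_left]]
  exact Subgroup.mul_mem_sup n.2 (MonoidHom.mem_ker.mpr hc1)

/-- The radical of a normal subgroup of a group with trivial radical is trivial. -/
theorem radical_of_normal (hrad : ∀ K : Subgroup G, K.Normal → Group.IsSolvable K → K = ⊥)
    (N : Subgroup G) [N.Normal] (K : Subgroup N) (hK : K.Normal) (hKs : Group.IsSolvable K) :
    K = ⊥ := by
  haveI : (Components.solvRadical N).Characteristic := Components.solvRadical_characteristic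
  haveI : Group.IsSolvable (Components.solvRadical N) := Components.solvRadical_solvable
  have h1 := hrad ((Components.solvRadical N).map N.subtype) inferInstance
    (Components.isSolvable_map _ _)
  rw [Subgroup.map_eq_bot_iff_of_injective _ N.subtype_injective] at h1
  exact le_bot_iff.mp (h1 ▸ Components.le_solvRadical hK hKs)

/-- The structure of a product of a cyclic group and a Z-group with trivial solvable radical. -/
theorem core : ∀ (n : ℕ) (G : Type u) [Group G] [Finite G], Nat.card G = n →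
    ¬ Group.IsSolvable G → (∀ K : Subgroup G, K.Normal → Group.IsSolvable K → K = ⊥) →
    ∀ (A B : Subgroup G), IsCyclic A → IsZGroup B → (∀ g : G, ∃ a ∈ A, ∃ b ∈ B, g = a * b) →
    ∃ (p : ℕ) (Ω : Type u) (_ : MulAction G Ω) (_ : Fintype Ω), p.Prime ∧ 5 ≤ p ∧
      Nat.card Ω = p + 1 ∧ Dih G Ω ∧
      Nonempty (G ≃* Matrix.ProjGenLinGroup (Fin 2) (ZMod p)) := by
  intro n
  induction n using Nat.strong_induction_on with
  | _ n IH =>
    intro G _ _ hcardG hns hrad A B hAc hBz hAB
    haveI := hAc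
    haveI := hBz
    obtain hBtop | ⟨M, hM, hBM⟩ := eq_top_or_exists_le_coatom B
    · exfalso
      haveI : IsZGroup (⊤ : Subgroup G) := hBtop ▸ hBz
      haveI : IsZGroup G := IsZGroup.of_injective
        (f := (Subgroup.topEquiv (G := G)).symm.toMonoidHom)
        fun _ _ e => Subgroup.topEquiv.symm.injective e
      exact hns inferInstance
    have hAc' : ∀ x ∈ A, ∀ y ∈ A, x * y = y * x := fun x hx y hy =>
      congrArg Subtype.val (mul_comm' (⟨x, hx⟩ : A) ⟨y, hy⟩)
    have hAM : ∀ x ∈ A, x ∈ M → x ∈ M.normalCore := fun x hxA hxM g => by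
      obtain ⟨a, ha, b, hb, e⟩ := hAB g⁻¹
      rw [eq_inv_of_mul_eq_one_left (a := g) (b := a * b) (by rw [← e, mul_inv_cancel]), inv_inv,
        mul_inv_rev]
      have e1 : a⁻¹ * x * a = x := by rw [mul_assoc, hAc' x hxA a ha, inv_mul_cancel_left]
      rw [show b⁻¹ * a⁻¹ * x * (a * b) = b⁻¹ * (a⁻¹ * x * a) * b by group, e1]
      exact M.mul_mem (M.mul_mem (M.inv_mem (hBM hb)) hxM) (hBM hb)
    set N := M.normalCore
    by_cases hN : N = ⊥
    swap
    · exfalso
      have hNM : N ≤ M := Subgroup.normalCore_le M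
      have hNs : ¬ Group.IsSolvable N := fun hs => hN (hrad N inferInstance hs)
      have hNlt : Nat.card N < n := by
        refine hcardG ▸ lt_of_le_of_ne (Subgroup.card_le_card_group _) fun e => hM.1 ?_
        exact top_le_iff.mp (Subgroup.eq_top_of_card_eq N e ▸ hNM)
      haveI : IsCyclic (A.subgroupOf N) := isCyclic_of_injective
        ((N.subtype.comp (A.subgroupOf N).subtype).codRestrict A fun x => x.2)
        (fun x y e => Subtype.ext (Subtype.ext (congrArg (fun z : A => (z : G)) e)))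
      haveI : IsZGroup (B.subgroupOf N) := IsZGroup.of_injective
        (f := (N.subtype.comp (B.subgroupOf N).subtype).codRestrict B fun x => x.2)
        (fun x y e => Subtype.ext (Subtype.ext (congrArg (fun z : B => (z : G)) e)))
      have hfac : ∀ g : N, ∃ a ∈ A.subgroupOf N, ∃ b ∈ B.subgroupOf N, g = a * b := fun g => by
        obtain ⟨a, ha, b, hb, e⟩ := hAB g
        have haM : a ∈ M := by
          rw [eq_mul_inv_of_mul_eq e.symm]
          exact M.mul_mem (hNM g.2) (M.inv_mem (hBM hb))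
        have haN := hAM a ha haM
        have hbN : b ∈ N := by
          rw [eq_inv_mul_of_mul_eq e.symm]
          exact N.mul_mem (N.inv_mem haN) g.2
        exact ⟨⟨a, haN⟩, ha, ⟨b, hbN⟩, hb, Subtype.ext e⟩
      obtain ⟨p, Ω, _, _, hp, -, hcard, hd, -⟩ := IH _ hNlt N rfl hNs
        (radical_of_normal hrad N) _ _ inferInstance inferInstance hfac
      obtain ⟨C, hC, hNC, hNC'⟩ := exists_complement N hd hp hcard
      have hCs : ¬ Group.IsSolvable C := fun hs => hM.1 (top_le_iff.mp (by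
        rw [hrad C hC hs, sup_bot_eq] at hNC'
        exact hNC' ▸ hNM))
      exact not_direct hAB N C hNC hNC' hNs hCs
    -- `M = B` is core-free
    let Ω := G ⧸ M
    letI : Fintype Ω := Fintype.ofFinite _
    set φ := MulAction.toPermHom G Ω
    have hφinj : Function.Injective φ := by
      rw [← MonoidHom.ker_eq_bot_iff, ← Subgroup.normalCore_eq_ker]
      exact hN
    haveI : FaithfulSMul G Ω := ⟨fun {g g'} e => hφinj (Equiv.ext e)⟩
    have hMB : M = B := by
      refine le_antisymm (fun x hx => ?_) hBM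
      obtain ⟨a, ha, b, hb, e⟩ := hAB x
      have haM : a ∈ M := by
        rw [eq_mul_inv_of_mul_eq e.symm]
        exact M.mul_mem hx (M.inv_mem (hBM hb))
      have h1 : a = 1 := Subgroup.mem_bot.mp (hN ▸ hAM a ha haM)
      rw [e, h1, one_mul]
      exact hb
    haveI : Nontrivial Ω := QuotientGroup.nontrivial_iff.mpr hM.1
    haveI hprim : MulAction.IsPreprimitive G Ω := by
      rw [← MulAction.isCoatom_stabilizer_iff_preprimitive G ((1 : G) : Ω),
        MulAction.stabilizer_quotient]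
      exact hM
    -- `A` is regular
    have hAtrans : MulAction.IsPretransitive A Ω := by
      refine ⟨fun x y => ?_⟩
      suffices hs : ∀ z : Ω, ∃ a : A, a • ((1 : G) : Ω) = z by
        obtain ⟨a, rfl⟩ := hs x
        obtain ⟨a', rfl⟩ := hs y
        exact ⟨a' * a⁻¹, by rw [mul_smul, inv_smul_smul]⟩
      intro z
      induction z using QuotientGroup.induction_on with
      | H g =>
        obtain ⟨a, ha, b, hb, rfl⟩ := hAB g
        refine ⟨⟨a, ha⟩, QuotientGroup.eq.mpr ?_⟩
        simpa [Subgroup.smul_def] using hBM hb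
    have hAfree : ∀ a ∈ A, ∀ x : Ω, a • x = x → a = 1 := fun a ha x hx => by
      refine eq_of_smul_eq_smul fun y : Ω => ?_
      obtain ⟨⟨c, hc⟩, hy⟩ := MulAction.exists_smul_eq A x y
      rw [one_smul, ← hy]
      show a • c • x = c • x
      rw [← mul_smul, hAc' a ha c hc, mul_smul, hx]
    have hAcard : Nat.card A = Nat.card Ω := by
      refine Nat.card_eq_of_bijective (fun a : A => (a : G) • ((1 : G) : Ω)) ⟨fun a c e => ?_, fun z => ?_⟩
      · refine inv_mul_eq_one.mp (Subtype.ext (hAfree _ (a⁻¹ * c).2 ((1 : G) : Ω) ?_))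
        have e' : (a : G) • ((1 : G) : Ω) = (c : G) • ((1 : G) : Ω) := e
        rw [Subgroup.coe_mul, Subgroup.coe_inv, mul_smul, ← e', inv_smul_smul]
      · obtain ⟨c, hc⟩ := MulAction.exists_smul_eq A ((1 : G) : Ω) z
        exact ⟨c, hc⟩
    obtain ⟨a0, ha0⟩ := IsCyclic.exists_ofOrder_eq_natCard (α := A)
    have ha0' : orderOf (a0 : G) = Nat.card Ω := by rw [Subgroup.orderOf_coe, ha0, hAcard]
    have h4 : 4 < Nat.card Ω := by
      by_contra hle
      exact hns (solvable_of_small (Ω := Ω) (by omega))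
    -- two-transitivity
    set X := φ.range
    haveI : MulAction.IsPretransitive X Ω := ⟨fun x y => by
      obtain ⟨g, hg⟩ := MulAction.exists_smul_eq G x y
      exact ⟨φ.rangeRestrict g, hg⟩⟩
    haveI hXprim : MulAction.IsPreprimitive X Ω :=
      MulAction.IsPreprimitive.of_surjective
        (f := ({ toFun := id, map_smul' := fun _ _ => rfl } : Ω →ₑ[φ.rangeRestrict] Ω))
        Function.surjective_id
    have hXns : ¬ Group.IsSolvable X := fun hs =>
      hns (Group.isSolvable_of_isSolvable_injective (MonoidHom.rangeRestrict_injective_iff.mpr hφinj))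
    have htwoX : MulAction.IsMultiplyPretransitive X Ω 2 := by
      by_cases hpp : IsPrimePow (Nat.card Ω)
      · obtain ⟨q, m, hq, hm, hqm⟩ := (isPrimePow_nat_iff _).mp hpp
        rcases Nat.lt_or_ge m 2 with hm2 | hm2
        · rw [show m = 1 by omega, pow_one] at hqm
          exact (S0675.result (by rw [← Nat.card_eq_fintype_card, ← hqm]; exact hq) X).resolve_left hXns
        · by_contra h2
          refine (S3972.result q m hq hm2 (by rw [← Nat.card_eq_fintype_card, hqm]) X inferInstance h2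
            (φ.rangeRestrict a0) ?_).1 hXprim
          rw [orderOf_injective _ (MonoidHom.rangeRestrict_injective_iff.mpr hφinj), ha0', hqm]
      · haveI : FaithfulSMul X Ω := ⟨fun {g g'} e => Subtype.ext (Equiv.ext e)⟩
        haveI : IsCyclic (A.map φ.rangeRestrict) :=
          isCyclic_of_surjective (φ.rangeRestrict.subgroupMap A) (φ.rangeRestrict.subgroupMap_surjective A)
        refine (S3559.result (G := X) (Ω := Ω) inferInstance (by omega) hpp
          (A.map φ.rangeRestrict) inferInstance ⟨?_, ?_⟩).resolve_left (fun h => h hXprim)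
        · refine ⟨fun x y => ?_⟩
          obtain ⟨⟨a, ha⟩, hay⟩ := MulAction.exists_smul_eq A x y
          exact ⟨⟨φ.rangeRestrict a, a, ha, rfl⟩, hay⟩
        · intro x
          refine (Subgroup.eq_bot_iff_forall _).mpr fun y hy => ?_
          obtain ⟨_, a, ha, rfl⟩ := y
          obtain rfl : a = 1 := hAfree a ha x hy
          exact Subtype.ext (map_one _)
    have htwo : MulAction.IsMultiplyPretransitive G Ω 2 := by
      refine is_two_pretransitive_iff.mpr fun {x y z w} hxy hzw => ?_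
      obtain ⟨⟨_, g, rfl⟩, g1, g2⟩ := is_two_pretransitive_iff.mp htwoX hxy hzw
      exact ⟨g, g1, g2⟩
    have hzgp : ∀ x : Ω, IsZGroup (stabilizer G x) := fun x => by
      induction x using QuotientGroup.induction_on with
      | H g =>
        refine IsZGroup.of_injective
          (f := (((MulAut.conj g⁻¹).toMonoidHom.comp (stabilizer G ((g : G) : Ω)).subtype).codRestrict B
            fun y => ?_)) fun y y' e => Subtype.ext ((MulAut.conj g⁻¹).injective
              (congrArg (fun z : B => (z : G)) e))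
        rw [← hMB]
        have hy := QuotientGroup.eq.mp (mem_stabilizer_iff.mp y.2)
        have := M.inv_mem hy
        simpa [mul_assoc] using this
    have hsemi : ∃ g : G, orderOf g = 2 ^ (Nat.card Ω).factorization 2 ∧
        ∀ (i : ℕ) (x : Ω), g ^ i • x = x → g ^ i = 1 := by
      refine ⟨(a0 : G) ^ (Nat.card Ω / 2 ^ (Nat.card Ω).factorization 2), ?_, fun i x hx =>
        hAfree _ (A.pow_mem (A.pow_mem a0.2 _) i) x hx⟩
      rw [orderOf_pow' _ (Nat.ordCompl_pos 2 (by omega)).ne', ha0',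
        Nat.gcd_eq_right (Nat.div_dvd_of_dvd (Nat.ordProj_dvd _ 2)),
        Nat.div_div_self (Nat.ordProj_dvd _ 2) (by omega)]
    obtain ⟨hd, hp, hp5⟩ := main ⟨inferInstance, htwo, hzgp, hsemi⟩ hns
    set p := Nat.card Ω - 1 with hpdef
    have hcardΩ : Nat.card Ω = p + 1 := by omega
    refine ⟨p, Ω, inferInstance, inferInstance, hp, hp5, hcardΩ, hd, ?_⟩
    have hX : Nat.card X = (p + 1) * p * (p - 1) := by
      rw [← hd.card_group hcardΩ]
      exact (Nat.card_congr (MonoidHom.ofInjective hφinj).toEquiv).symm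
    rcases S0732.result hp (by rw [← Nat.card_eq_fintype_card, hcardΩ]) X hX (by omega) with
      ⟨-, ⟨e⟩⟩ | ⟨he, -⟩ | ⟨q, hq, hpq, hd1 | hdq, -⟩
    · exact ⟨(MonoidHom.ofInjective hφinj).trans e⟩
    · omega
    · omega
    · exfalso
      have h1 : ∀ j : ℕ, j + 3 < 2 ^ (j + 3) - 2 := fun j => by
        induction j with
        | zero => norm_num
        | succ j ih => rw [pow_succ]; omega
      rcases Nat.lt_or_ge q 3 with hq3 | hq3
      · have hq2 : q = 2 := by have := hq.two_le; omega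
        rw [hq2] at hpq
        omega
      · have := h1 (q - 3)
        rw [show q - 3 + 3 = q by omega] at this
        omega

end Cfsg.Agent.CycZ
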