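import Cfsg.Agent.Lib.CycZ.DihFacts
import Mathlib.GroupTheory.Sylow

/-!
# The centraliser of an involution with fixed points, acting on its fixed points
-/

set_option autoImplicit false
set_option linter.unusedSectionVars false
set_option linter.style.haveILetI false
set_option linter.unusedVariables false

namespace Cfsg.Agent.CycZ

open MulAction Cfsg.Agent.Zass
open scoped Classical

universe u

variable {G : Type u} [Group G] [Finite G] {Ω : Type u} [MulAction G Ω] [Fintype Ω]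

/-- The centraliser of `τ` acts on the fixed points of `τ`. -/
noncomputable instance fixAct {τ : G} :
    MulAction (Subgroup.centralizer ({τ} : Set G)) {x : Ω // τ • x = x} where
  smul g x := ⟨(g : G) • x.1, by
    rw [← mul_smul, ← Subgroup.mem_centralizer_singleton_iff.mp g.2, mul_smul, x.2]⟩
  one_smul x := Subtype.ext (one_smul G x.1)
  mul_smul g g' x := Subtype.ext (mul_smul (g : G) (g' : G) x.1)

theorem fix_smul_val {τ : G} (g : Subgroup.centralizer ({τ} : Set G)) (x : {x : Ω // τ • x = x}) :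
    ((g • x : {x : Ω // τ • x = x}) : Ω) = (g : G) • x.1 := rfl

/-- The action of the centraliser on the fixed points, as a homomorphism. -/
noncomputable abbrev fixHom (Ω : Type u) [MulAction G Ω] (τ : G) :
    Subgroup.centralizer ({τ} : Set G) →* Equiv.Perm {x : Ω // τ • x = x} :=
  MulAction.toPermHom _ _

/-- The group induced on the fixed points. -/
noncomputable abbrev img (Ω : Type u) [MulAction G Ω] (τ : G) :
    Subgroup (Equiv.Perm {x : Ω // τ • x = x}) :=
  (fixHom Ω τ).range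

/-- The element of the induced group coming from an element of the centraliser. -/
noncomputable def toImg (Ω : Type u) [MulAction G Ω] (τ : G) :
    Subgroup.centralizer ({τ} : Set G) →* img Ω τ :=
  (fixHom Ω τ).rangeRestrict

theorem toImg_surj (τ : G) : Function.Surjective (toImg Ω τ) :=
  MonoidHom.rangeRestrict_surjective _

theorem toImg_smul {τ : G} (g : Subgroup.centralizer ({τ} : Set G))
    (x : {x : Ω // τ • x = x}) : toImg Ω τ g • x = g • x := rfl

theorem toImg_eq_one {τ : G} {g : Subgroup.centralizer ({τ} : Set G)} :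
    toImg Ω τ g = 1 ↔ ∀ x : Ω, τ • x = x → (g : G) • x = x := by
  constructor
  · intro h x hx
    have e := toImg_smul (Ω := Ω) g ⟨x, hx⟩
    rw [h, one_smul] at e
    exact (congrArg Subtype.val e).symm
  · intro h
    refine Subtype.ext (Equiv.ext fun x => Subtype.ext ?_)
    exact h x.1 x.2

namespace Hyp

variable (h : Hyp G Ω) {a b : Ω} {τ : G}
include h

theorem two_le_cent (hab : a ≠ b) (ht : τ ∈ Zass.two (G := G) a b) :
    Zass.two (G := G) a b ≤ Subgroup.centralizer ({τ} : Set G) := fun x hx => by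
  haveI := h.cyclic_two hab
  rw [Subgroup.mem_centralizer_singleton_iff]
  exact congrArg Subtype.val (mul_comm' (⟨x, hx⟩ : Zass.two (G := G) a b) ⟨τ, ht⟩)

theorem cent_two (hab : a ≠ b) (ht : τ ∈ Zass.two (G := G) a b) (ht2 : orderOf τ = 2) :
    MulAction.IsMultiplyPretransitive (Subgroup.centralizer ({τ} : Set G))
      {x : Ω // τ • x = x} 2 := by
  refine is_two_pretransitive_iff.mpr fun {p q r s} hpq hrs => ?_
  obtain ⟨g, g1, g2⟩ := h.move (fun e => hpq (Subtype.ext e)) (fun e => hrs (Subtype.ext e))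
  have e : g * τ * g⁻¹ = τ := by
    refine h.invol_unique (a := r.1) (b := s.1) (fun e => hrs (Subtype.ext e))
      (mem_two.mpr ⟨?_, ?_⟩) (mem_two.mpr ⟨r.2, s.2⟩) ?_ ht2
    · rw [← g1, mul_smul, mul_smul, inv_smul_smul, p.2]
    · rw [← g2, mul_smul, mul_smul, inv_smul_smul, q.2]
    · rw [show g * τ * g⁻¹ = MulAut.conj g τ from rfl, MulEquiv.orderOf_eq, ht2]
  exact ⟨⟨g, Subgroup.mem_centralizer_singleton_iff.mpr (mul_inv_eq_iff_eq_mul.mp e)⟩,
    Subtype.ext g1, Subtype.ext g2⟩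

theorem img_two (hab : a ≠ b) (ht : τ ∈ Zass.two (G := G) a b) (ht2 : orderOf τ = 2) :
    MulAction.IsMultiplyPretransitive (img Ω τ) {x : Ω // τ • x = x} 2 := by
  refine is_two_pretransitive_iff.mpr fun {p q r s} hpq hrs => ?_
  obtain ⟨g, g1, g2⟩ := is_two_pretransitive_iff.mp (h.cent_two hab ht ht2) hpq hrs
  exact ⟨toImg Ω τ g, g1, g2⟩

theorem img_zgp (x : {x : Ω // τ • x = x}) : IsZGroup (stabilizer (img Ω τ) x) := by
  haveI := h.zgp x.1
  let S := stabilizer (Subgroup.centralizer ({τ} : Set G)) x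
  let i : S →* stabilizer G x.1 :=
    { toFun := fun g => ⟨g.1.1, congrArg Subtype.val g.2⟩
      map_one' := rfl
      map_mul' := fun _ _ => rfl }
  have hi : Function.Injective i := fun g g' e =>
    Subtype.ext (Subtype.ext (congrArg (fun y : stabilizer G x.1 => (y : G)) e))
  haveI : IsZGroup S := IsZGroup.of_injective hi
  let j : S →* stabilizer (img Ω τ) x :=
    ((toImg Ω τ).comp S.subtype).codRestrict _ fun g => g.2
  refine IsZGroup.of_surjective (f := j) fun y => ?_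
  obtain ⟨g, hg⟩ := toImg_surj (Ω := Ω) τ y.1
  have hgx : g • x = x := by
    rw [← toImg_smul, hg]
    exact y.2
  exact ⟨⟨g, hgx⟩, Subtype.ext hg⟩

/-- The induced group satisfies the hypothesis, given a semiregular element in the centraliser. -/
theorem img_hyp (hab : a ≠ b) (ht : τ ∈ Zass.two (G := G) a b) (ht2 : orderOf τ = 2) {α : G}
    (hαC : α ∈ Subgroup.centralizer ({τ} : Set G))
    (hα : orderOf α = 2 ^ (fx Ω τ).factorization 2)
    (hfree : ∀ (i : ℕ) (x : Ω), α ^ i • x = x → α ^ i = 1) :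
    Hyp (img Ω τ) {x : Ω // τ • x = x} where
  faith := ⟨fun {g g'} e => Subtype.ext (Equiv.ext fun x => e x)⟩
  two := h.img_two hab ht ht2
  zgp := h.img_zgp
  semi := by
    have hpow : ∀ i : ℕ, ∀ x : {x : Ω // τ • x = x},
        toImg Ω τ ⟨α, hαC⟩ ^ i • x = x → α ^ i = 1 := fun i x e => by
      rw [← map_pow, toImg_smul] at e
      exact hfree i x.1 (congrArg Subtype.val e)
    refine ⟨toImg Ω τ ⟨α, hαC⟩, ?_, fun i x e => ?_⟩
    · refine (Nat.dvd_antisymm ?_ ?_).trans hα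
      · exact (orderOf_map_dvd _ _).trans (by rw [Subgroup.orderOf_mk])
      · refine orderOf_dvd_of_pow_eq_one (hpow _ ⟨a, (mem_two.mp ht).1⟩ ?_)
        rw [pow_orderOf_eq_one, one_smul]
    · have hα1 := hpow i x e
      rw [← map_pow, show (⟨α, hαC⟩ : Subgroup.centralizer ({τ} : Set G)) ^ i = 1 from
        Subtype.ext hα1, map_one]

theorem card_cent (hab : a ≠ b) (ht : τ ∈ Zass.two (G := G) a b) (ht2 : orderOf τ = 2) :
    Nat.card (Subgroup.centralizer ({τ} : Set G)) =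
      fx Ω τ * (fx Ω τ - 1) * Nat.card (Zass.two (G := G) a b) := by
  rw [card_two_trans (h.cent_two hab ht ht2) (a := (⟨a, (mem_two.mp ht).1⟩ : {x : Ω // τ • x = x}))
    (b := ⟨b, (mem_two.mp ht).2⟩) (fun e => hab (congrArg Subtype.val e))]
  congr 1
  exact Nat.card_congr
    { toFun := fun g => ⟨g.1.1, mem_two.mpr ⟨congrArg Subtype.val (mem_two.mp g.2).1,
        congrArg Subtype.val (mem_two.mp g.2).2⟩⟩
      invFun := fun g => ⟨⟨g.1, h.two_le_cent hab ht g.2⟩,
        mem_two.mpr ⟨Subtype.ext (mem_two.mp g.2).1, Subtype.ext (mem_two.mp g.2).2⟩⟩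
      left_inv := fun _ => rfl
      right_inv := fun _ => rfl }

/-- The kernel of the action on the fixed points is central. -/
theorem ker_central (hab : a ≠ b) (ht : τ ∈ Zass.two (G := G) a b) (ht2 : orderOf τ = 2)
    (hd : Dih (img Ω τ) {x : Ω // τ • x = x}) {k : Subgroup.centralizer ({τ} : Set G)}
    (hk : toImg Ω τ k = 1) (c : Subgroup.centralizer ({τ} : Set G)) : Commute k c := by
  set K := (toImg Ω τ).ker
  set Z := Subgroup.centralizer (K : Set (Subgroup.centralizer ({τ} : Set G)))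
  suffices hc : c ∈ Z by exact Subgroup.mem_centralizer_iff.mp hc k hk
  haveI hZn : Z.Normal := inferInstance
  haveI := h.cyclic_two hab
  set a' : {x : Ω // τ • x = x} := ⟨a, (mem_two.mp ht).1⟩
  set b' : {x : Ω // τ • x = x} := ⟨b, (mem_two.mp ht).2⟩
  have hab' : a' ≠ b' := fun e => hab (congrArg Subtype.val e)
  have hT : ∀ g : Subgroup.centralizer ({τ} : Set G), g • a' = a' → g • b' = b' → g ∈ Z := by
    intro g ga gb
    refine Subgroup.mem_centralizer_iff.mpr fun y hy => Subtype.ext ?_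
    have hy' := toImg_eq_one.mp (MonoidHom.mem_ker.mp hy)
    exact congrArg (fun t : Zass.two (G := G) a b => (t : G)) (mul_comm'
      (⟨(y : G), mem_two.mpr ⟨hy' a a'.2, hy' b b'.2⟩⟩ : Zass.two (G := G) a b)
      ⟨(g : G), mem_two.mpr ⟨congrArg Subtype.val ga, congrArg Subtype.val gb⟩⟩)
  have hpair : ∀ {p q : {x : Ω // τ • x = x}}, p ≠ q →
      ∀ g : Subgroup.centralizer ({τ} : Set G), g • p = p → g • q = q → g ∈ Z := by
    intro p q hpq g gp gq
    obtain ⟨d, d1, d2⟩ := is_two_pretransitive_iff.mp (h.cent_two hab ht ht2) hab' hpq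
    have hmem : d⁻¹ * g * d ∈ Z := hT _
      (by rw [mul_smul, mul_smul, d1, gp, inv_smul_eq_iff, d1])
      (by rw [mul_smul, mul_smul, d2, gq, inv_smul_eq_iff, d2])
    have := hZn.conj_mem _ hmem d
    rwa [show d * (d⁻¹ * g * d) * d⁻¹ = g by group] at this
  have hfourth : ∀ x y z : {x : Ω // τ • x = x}, ∃ w, w ≠ x ∧ w ≠ y ∧ w ≠ z := fun x y z => by
    have h4 := hd.four
    rw [Nat.card_eq_fintype_card, ← Finset.card_univ] at h4
    obtain ⟨w, -, hw⟩ := Finset.exists_mem_notMem_of_card_lt_card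
      (s := ({x, y, z} : Finset {x : Ω // τ • x = x})) (t := Finset.univ)
      (lt_of_le_of_lt Finset.card_le_three (by omega))
    simp only [Finset.mem_insert, Finset.mem_singleton, not_or] at hw
    exact ⟨w, hw⟩
  -- `Z` moves any point to any other, fixing a third
  have hmove : ∀ p q r : {x : Ω // τ • x = x}, r ≠ p → r ≠ q → ∃ g ∈ Z, g • p = q ∧ g • r = r := by
    intro p q r hrp hrq
    obtain ⟨w, hwp, hwq, hwr⟩ := hfourth p q r
    obtain ⟨y, y1, y2, y3⟩ := hd.three hrp.symm hwp.symm hwr.symm hrq.symm hwq.symm hwr.symm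
    obtain ⟨g, rfl⟩ := toImg_surj (Ω := Ω) τ y
    exact ⟨g, hpair hwr.symm g y2 y3, y1, y2⟩
  obtain ⟨r, hr1, hr2, -⟩ := hfourth (c • a') a' a'
  obtain ⟨g1, hg1, hg1a, -⟩ := hmove (c • a') a' r hr1 hr2
  have hc1 : (g1 * c) • a' = a' := by rw [mul_smul, hg1a]
  by_cases hb : (g1 * c) • b' = b'
  · have := Z.mul_mem (Z.inv_mem hg1) (hT _ hc1 hb)
    rwa [inv_mul_cancel_left] at this
  · have hne : a' ≠ (g1 * c) • b' := fun e =>
      hab' ((smul_left_cancel_iff (g1 * c)).mp (hc1.trans e))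
    obtain ⟨g2, hg2, hg2b, hg2a⟩ := hmove ((g1 * c) • b') b' a' hne hab'
    have := Z.mul_mem (Z.inv_mem hg1) (Z.mul_mem (Z.inv_mem hg2)
      (hT (g2 * (g1 * c)) (by rw [mul_smul, hc1, hg2a]) (by rw [mul_smul, hg2b])))
    rwa [inv_mul_cancel_left, inv_mul_cancel_left] at this

/-- The 2-local data around `τ`. -/
theorem sylow_data (hn : Even (Nat.card Ω)) (hab : a ≠ b) (ht : τ ∈ Zass.two (G := G) a b)
    (ht2 : orderOf τ = 2) :
    ∃ (α g : G) (P S : Subgroup G), IsPGroup 2 S ∧ P ≤ S ∧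
      P ≤ Subgroup.centralizer ({τ} : Set G) ∧ S ⊓ Subgroup.centralizer ({τ} : Set G) ≤ P ∧
      α ∈ P ∧ g ∈ P ∧ g ∈ Zass.two (G := G) a b ∧
      orderOf g = 2 ^ (Nat.card (Zass.two (G := G) a b)).factorization 2 ∧
      orderOf α = 2 ^ (fx Ω τ).factorization 2 ∧
      (∀ (i : ℕ) (x : Ω), α ^ i • x = x → α ^ i = 1) ∧
      (∀ x ∈ P, ∃ i j : ℕ, x = α ^ i * g ^ j) ∧
      Nat.card S = 2 ^ ((Nat.card Ω).factorization 2 +
        (Nat.card (Zass.two (G := G) a b)).factorization 2) ∧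
      Nat.card P = 2 ^ ((fx Ω τ).factorization 2 +
        (Nat.card (Zass.two (G := G) a b)).factorization 2) := by
  haveI : Fact (Nat.Prime 2) := ⟨Nat.prime_two⟩
  have hn0 : 0 < Nat.card Ω := Nat.card_pos_iff.mpr ⟨⟨a⟩, inferInstance⟩
  have hn1 : Odd (Nat.card Ω - 1) := Nat.Even.sub_odd hn0 hn odd_one
  have hf0 : 0 < fx Ω τ := Nat.card_pos_iff.mpr ⟨⟨⟨a, (mem_two.mp ht).1⟩⟩, inferInstance⟩
  have hf : Even (fx Ω τ) := by
    have := fx_parity (Ω := Ω) (g := τ) (by rw [← pow_two, ← ht2, pow_orderOf_eq_one])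
    rw [Nat.even_iff] at hn ⊢
    omega
  have hf1 : Odd (fx Ω τ - 1) := Nat.Even.sub_odd hf0 hf odd_one
  set C := Subgroup.centralizer ({τ} : Set G)
  set T := Zass.two (G := G) a b
  set w := (Nat.card T).factorization 2
  set vn := (Nat.card Ω).factorization 2
  set vf := (fx Ω τ).factorization 2
  have hT0 := (Nat.card_pos (α := T)).ne'
  -- the generator of the 2-part of `T`
  haveI := h.cyclic_two hab
  obtain ⟨g0, hg0⟩ := IsCyclic.exists_ofOrder_eq_natCard (α := T)
  set g : G := (g0 : G) ^ (Nat.card T / 2 ^ w) with hgdef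
  have hgT : g ∈ T := Subgroup.pow_mem _ g0.2 _
  have hdvd : 2 ^ w ∣ Nat.card T := Nat.ordProj_dvd _ 2
  have hg : orderOf g = 2 ^ w := by
    have hg0' : orderOf (g0 : G) = Nat.card T := by rw [Subgroup.orderOf_coe, hg0]
    have hne : Nat.card T / 2 ^ w ≠ 0 := (Nat.ordCompl_pos 2 hT0).ne'
    rw [hgdef, orderOf_pow' _ hne, hg0', Nat.gcd_eq_right (Nat.div_dvd_of_dvd hdvd),
      Nat.div_div_self hdvd hT0]
  set T2 := Subgroup.zpowers g
  have hT2T : T2 ≤ T := Subgroup.zpowers_le.mpr hgT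
  have hT2C : T2 ≤ C := hT2T.trans (h.two_le_cent hab ht)
  have hT2p : IsPGroup 2 T2 := IsPGroup.of_card (by rw [Nat.card_zpowers, hg])
  have hT2c : Nat.card T2 = 2 ^ w := by rw [Nat.card_zpowers, hg]
  obtain ⟨Q, hQ⟩ := (hT2p.of_equiv (Subgroup.subgroupOfEquivOfLe hT2C).symm).exists_le_sylow
  set P : Subgroup G := (Q : Subgroup C).map C.subtype
  have hPC : P ≤ C := Subgroup.map_subtype_le _
  have hT2P : T2 ≤ P := fun x hx => ⟨⟨x, hT2C hx⟩, hQ hx, rfl⟩
  have hPp : IsPGroup 2 P := Q.2.map _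
  have hPc : Nat.card P = 2 ^ (vf + w) := by
    rw [Subgroup.card_map_of_injective C.subtype_injective, Q.card_eq_multiplicity,
      h.card_cent hab ht ht2, Nat.factorization_mul (Nat.mul_pos hf0 hf1.pos).ne' hT0,
      Nat.factorization_mul hf0.ne' hf1.pos.ne', Finsupp.add_apply, Finsupp.add_apply,
      Nat.factorization_eq_zero_of_not_dvd hf1.not_two_dvd_nat, add_zero]
  obtain ⟨S, hPS⟩ := hPp.exists_le_sylow
  have hSc : Nat.card S = 2 ^ (vn + w) := by
    rw [S.card_eq_multiplicity, card_two_trans h.two hab,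
      Nat.factorization_mul (Nat.mul_pos hn0 hn1.pos).ne' hT0,
      Nat.factorization_mul hn0.ne' hn1.pos.ne', Finsupp.add_apply, Finsupp.add_apply,
      Nat.factorization_eq_zero_of_not_dvd hn1.not_two_dvd_nat, add_zero]
  -- a semiregular element in `S`
  obtain ⟨s, hs, hsfree⟩ := h.semi
  obtain ⟨S0, hS0⟩ := (IsPGroup.of_card (p := 2) (n := vn)
    (show Nat.card (Subgroup.zpowers s) = 2 ^ vn by rw [Nat.card_zpowers, hs])).exists_le_sylow
  obtain ⟨d, hd⟩ := MulAction.exists_smul_eq G S0 S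
  set a0 := MulAut.conj d s with ha0def
  have ha0S : a0 ∈ (S : Subgroup G) := by
    rw [← hd]
    exact Subgroup.smul_mem_pointwise_smul _ _ _ (hS0 (Subgroup.mem_zpowers s))
  have ha0 : orderOf a0 = 2 ^ vn := by rw [ha0def, MulEquiv.orderOf_eq, hs]
  have ha0free : ∀ y ∈ Subgroup.zpowers a0, ∀ x : Ω, y • x = x → y = 1 := by
    intro y hy x hx
    obtain ⟨i, rfl⟩ := mem_powers_iff_mem_zpowers.mpr hy
    dsimp only at hx ⊢
    rw [ha0def, ← map_pow] at hx ⊢
    rw [MulAut.conj_apply, mul_smul, mul_smul] at hx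
    rw [hsfree i (d⁻¹ • x) (eq_inv_smul_iff.mpr hx), map_one]
  set A := Subgroup.zpowers a0
  have hAS : A ≤ (S : Subgroup G) := Subgroup.zpowers_le.mpr ha0S
  have hAT : ∀ y ∈ A, y ∈ T2 → y = 1 := fun y hy hy' =>
    ha0free y hy a (mem_two.mp (hT2T hy')).1
  have hT2S : T2 ≤ (S : Subgroup G) := hT2P.trans hPS
  have hprod : ∀ B : Subgroup G, B ≤ A → ∀ (R : Subgroup G) (hBR : B ≤ R) (hTR : T2 ≤ R),
      Function.Injective (fun p : B × T2 => (⟨(p.1 : G) * p.2,
        R.mul_mem (hBR p.1.2) (hTR p.2.2)⟩ : R)) := by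
    intro B hB R hBR hTR p q e
    have e' : (p.1 : G) * p.2 = q.1 * q.2 := congrArg Subtype.val e
    have h1 : (q.1 : G)⁻¹ * p.1 = q.2 * (p.2 : G)⁻¹ := by
      rw [inv_mul_eq_iff_eq_mul, ← mul_assoc, eq_mul_inv_iff_mul_eq]
      exact e'
    have h2 : (q.1 : G)⁻¹ * p.1 = 1 :=
      hAT _ (hB (B.mul_mem (B.inv_mem q.1.2) p.1.2)) (h1 ▸ T2.mul_mem q.2.2 (T2.inv_mem p.2.2))
    rw [h2] at h1
    exact Prod.ext (Subtype.ext (inv_mul_eq_one.mp h2).symm)
      (Subtype.ext (mul_inv_eq_one.mp h1.symm).symm)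
  have hsurjS : Function.Surjective (fun p : A × T2 => (⟨(p.1 : G) * p.2,
      (S : Subgroup G).mul_mem (hAS p.1.2) (hT2S p.2.2)⟩ : (S : Subgroup G))) :=
    ((Nat.bijective_iff_injective_and_card _).mpr ⟨hprod A le_rfl _ hAS hT2S, by
      rw [Nat.card_prod, Nat.card_zpowers, ha0, hT2c, ← pow_add, hSc]⟩).2
  set B := A ⊓ P
  have hsurjP : Function.Surjective (fun p : B × T2 => (⟨(p.1 : G) * p.2,
      P.mul_mem (show (p.1 : G) ∈ P from p.1.2.2) (hT2P p.2.2)⟩ : P)) := by
    intro x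
    obtain ⟨p, hp⟩ := hsurjS ⟨x.1, hPS x.2⟩
    have hp' : (p.1 : G) * p.2 = x.1 := congrArg Subtype.val hp
    have hmem : (p.1 : G) ∈ P := by
      rw [eq_mul_inv_of_mul_eq hp']
      exact P.mul_mem x.2 (P.inv_mem (hT2P p.2.2))
    exact ⟨(⟨p.1.1, p.1.2, hmem⟩, p.2), Subtype.ext hp'⟩
  have hBc : Nat.card B = 2 ^ vf := by
    have e := Nat.card_eq_of_bijective _
      ⟨hprod B inf_le_left P inf_le_right hT2P, hsurjP⟩
    rw [Nat.card_prod, hT2c, hPc, pow_add] at e
    exact Nat.eq_of_mul_eq_mul_right (by positivity) e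
  haveI : IsCyclic B := isCyclic_of_injective (Subgroup.inclusion inf_le_left)
    (Subgroup.inclusion_injective (inf_le_left : B ≤ A))
  obtain ⟨α, hα⟩ := IsCyclic.exists_ofOrder_eq_natCard (α := B)
  have hαtop := Subgroup.eq_top_of_card_eq (Subgroup.zpowers α) (by rw [Nat.card_zpowers, hα])
  refine ⟨α, g, P, S, S.2, hPS, hPC, ?_, α.2.2, hT2P (Subgroup.mem_zpowers g), hgT, hg,
    by rw [Subgroup.orderOf_coe, hα, hBc], ?_, ?_, hSc, hPc⟩
  · intro x hx
    have hle : (Q : Subgroup C) ≤ ((S : Subgroup G) ⊓ C).subgroupOf C := fun y hy =>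
      ⟨hPS ⟨y, hy, rfl⟩, y.2⟩
    have hp : IsPGroup 2 (((S : Subgroup G) ⊓ C).subgroupOf C) :=
      (S.2.to_le inf_le_left).of_equiv (Subgroup.subgroupOfEquivOfLe inf_le_right).symm
    have hmem : (⟨x, hx.2⟩ : C) ∈ ((S : Subgroup G) ⊓ C).subgroupOf C := hx
    rw [Q.3 hp hle] at hmem
    exact ⟨_, hmem, rfl⟩
  · exact fun i x hx => ha0free _ (A.pow_mem α.2.1 i) x hx
  · intro x hx
    obtain ⟨⟨p, q⟩, hp⟩ := hsurjP ⟨x, hx⟩
    obtain ⟨i, hi⟩ := mem_powers_iff_mem_zpowers.mpr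
      (hαtop ▸ Subgroup.mem_top p : p ∈ Subgroup.zpowers α)
    obtain ⟨j, hj⟩ := mem_powers_iff_mem_zpowers.mpr q.2
    have hp' : (p : G) * q = x := congrArg Subtype.val hp
    have hi' : (α : G) ^ i = p := congrArg Subtype.val hi
    have hj' : g ^ j = q := hj
    exact ⟨i, j, by rw [← hp', ← hi', ← hj']⟩

end Hyp

end Cfsg.Agent.CycZ
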