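import Cfsg.Agent.Lib.CycZ.Step

/-!
# The classification of the induction hypothesis
-/

set_option autoImplicit false
set_option linter.unusedSectionVars false
set_option linter.style.haveILetI false

namespace Cfsg.Agent.CycZ

open MulAction Cfsg.Agent.Zass
open scoped Classical

universe u

theorem main_aux : ∀ (n : ℕ) (G : Type u) [Group G] [Finite G] (Ω : Type u) [MulAction G Ω]
    [Fintype Ω], Nat.card Ω = n → Hyp G Ω → ¬ Group.IsSolvable G →
      Dih G Ω ∧ (n - 1).Prime ∧ 5 ≤ n - 1 := by
  intro n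
  induction n using Nat.strong_induction_on with
  | _ n IH =>
    intro G _ _ Ω _ _ hcard h hns
    subst hcard
    haveI := h.faith
    have hn : Even (Nat.card Ω) := by
      by_contra ho
      exact hns (h.solvable_of_odd (Nat.not_even_iff_odd.mp ho))
    have h4 : 4 < Nat.card Ω := by
      by_contra hle
      exact hns (solvable_of_small (Ω := Ω) (by omega))
    haveI : Nontrivial Ω := by
      rw [← Fintype.one_lt_card_iff_nontrivial, ← Nat.card_eq_fintype_card]
      omega
    obtain ⟨a, b, hab⟩ := exists_pair_ne Ω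
    obtain ⟨τ, hτ, hτ2⟩ := h.exists_tau hns hn hab
    have hp := fx_parity (Ω := Ω) (g := τ) (by rw [← pow_two, ← hτ2, pow_orderOf_eq_one])
    have hpos : 0 < fx Ω τ := Nat.card_pos_iff.mpr ⟨⟨⟨a, (mem_two.mp hτ).1⟩⟩, inferInstance⟩
    rw [Nat.even_iff.mp hn] at hp
    by_cases hf : fx Ω τ = 2
    · exact h.base hns hn hab hτ hτ2 hf
    · refine (h.step hn hab hτ hτ2 (by omega) fun H _ _ X _ _ hlt hH hHns => ?_).elim
      exact (IH _ hlt H X rfl hH hHns).1

/-- A nonsolvable group satisfying the hypothesis acts like `PGL(2, p)` on the projective line. -/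
theorem main {G : Type u} [Group G] [Finite G] {Ω : Type u} [MulAction G Ω] [Fintype Ω]
    (h : Hyp G Ω) (hns : ¬ Group.IsSolvable G) :
    Dih G Ω ∧ (Nat.card Ω - 1).Prime ∧ 5 ≤ Nat.card Ω - 1 :=
  main_aux (Nat.card Ω) G Ω rfl h hns

end Cfsg.Agent.CycZ
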