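import Cfsg.Agent.Lib.CycZ.Affine
import Cfsg.Agent.Lib.CycZ.Image
import Mathlib.GroupTheory.Nilpotent

/-!
# No involution fixes four or more points

The inductive step: an involution with at least four fixed points leads to a contradiction.
-/

set_option autoImplicit false
set_option linter.unusedSectionVars false
set_option linter.unusedVariables false
set_option linter.style.haveILetI false

namespace Cfsg.Agent.CycZ

open MulAction Cfsg.Agent.Zass
open scoped Classical

universe u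

variable {G : Type u} [Group G] [Finite G] {Ω : Type u} [MulAction G Ω] [Fintype Ω]

/-- The inductive step. -/
theorem Hyp.step (h : Hyp G Ω) (hn : Even (Nat.card Ω)) {a b : Ω} (hab : a ≠ b) {τ : G}
    (ht : τ ∈ Zass.two (G := G) a b) (ht2 : orderOf τ = 2) (hf4 : 4 ≤ fx Ω τ)
    (IH : ∀ (H : Type u) [Group H] [Finite H] (X : Type u) [MulAction H X] [Fintype X],
      Nat.card X < Nat.card Ω → Hyp H X → ¬ Group.IsSolvable H → Dih H X) : False := by
  haveI := h.faith
  haveI : Fact (Nat.Prime 2) := ⟨Nat.prime_two⟩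
  set C := Subgroup.centralizer ({τ} : Set G) with hCdef
  set T := Zass.two (G := G) a b
  have hττ : τ * τ = 1 := by rw [← pow_two, ← ht2, pow_orderOf_eq_one]
  have hfeven : Even (fx Ω τ) := by
    have := fx_parity (Ω := Ω) hττ
    rw [Nat.even_iff] at hn ⊢
    omega
  have hτ1 : τ ≠ 1 := fun e => by rw [e, orderOf_one] at ht2; omega
  have hfn : fx Ω τ < Nat.card Ω := by
    obtain ⟨x, hx⟩ : ∃ x : Ω, τ • x ≠ x := by
      by_contra hc
      push Not at hc
      exact hτ1 (eq_of_smul_eq_smul fun x : Ω => (hc x).trans (one_smul G x).symm)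
    rw [fx, Nat.card_eq_fintype_card, Nat.card_eq_fintype_card]
    exact Fintype.card_subtype_lt hx
  obtain ⟨α, g, P, S, hS, hPS, hPC, hSC, hαP, hgP, hgT, hg, hα, hfree, hPgen, hSc, hPc⟩ :=
    h.sylow_data hn hab ht ht2
  have hαC : α ∈ C := hPC hαP
  have hgC : g ∈ C := hPC hgP
  have hY := h.img_hyp hab ht ht2 hαC hα hfree
  have hd : Dih (img Ω τ) {x : Ω // τ • x = x} := by
    by_cases hs : Group.IsSolvable (img Ω τ)
    · exact (hY.affine hf4 hfeven).2
    · exact IH _ _ hfn hY hs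
  have hcentral : ∀ k c : C, toImg Ω τ k = 1 → Commute k c := fun k c hk =>
    h.ker_central hab ht ht2 hd hk c
  set φ := toImg Ω τ
  set a' : {x : Ω // τ • x = x} := ⟨a, (mem_two.mp ht).1⟩ with ha'
  set b' : {x : Ω // τ • x = x} := ⟨b, (mem_two.mp ht).2⟩ with hb'
  have hab' : a' ≠ b' := fun e => hab (congrArg Subtype.val e)
  have hτC : τ ∈ C := Subgroup.mem_centralizer_singleton_iff.mpr rfl
  set τC : C := ⟨τ, hτC⟩
  have hφτ : φ τC = 1 := toImg_eq_one.mpr fun x hx => hx
  -- the involution `z`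
  set vf := (fx Ω τ).factorization 2
  have hvf : 0 < vf := Nat.prime_two.factorization_pos_of_dvd (by omega) hfeven.two_dvd
  set z := α ^ 2 ^ (vf - 1) with hzdef
  have hz1 : z ≠ 1 := fun e => by
    have := orderOf_dvd_of_pow_eq_one e
    rw [hα, Nat.pow_dvd_pow_iff_le_right (by omega)] at this
    omega
  have hzz : z * z = 1 := by
    rw [hzdef, ← pow_add, show 2 ^ (vf - 1) + 2 ^ (vf - 1) = 2 ^ vf by
      rw [← two_mul, ← pow_succ', Nat.sub_add_cancel hvf], ← hα, pow_orderOf_eq_one]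
  have hzfree : ∀ x : Ω, z • x ≠ x := fun x e => hz1 (hfree _ x e)
  have hzC : z ∈ C := Subgroup.pow_mem _ hαC _
  set zC : C := ⟨z, hzC⟩
  have hzYfree : ∀ x : {x : Ω // τ • x = x}, φ zC • x ≠ x := fun x e =>
    hzfree x.1 (congrArg Subtype.val e)
  have hzz' : φ zC * φ zC = 1 := by
    rw [← map_mul, show zC * zC = 1 from Subtype.ext hzz, map_one]
  -- involutions with image `φ z`
  have hlift : ∀ y : C, (y : G) * y = 1 → φ y = φ zC → (y : G) = z ∨ (y : G) = z * τ := by
    intro y hy hφ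
    set k := zC⁻¹ * y with hk
    have hker : φ k = 1 := by rw [hk, map_mul, map_inv, hφ, inv_mul_cancel]
    have hy' : y = zC * k := by rw [hk, mul_inv_cancel_left]
    have hkk : (k : G) * k = 1 := by
      have hc : Commute (k : G) z := congrArg Subtype.val (hcentral k zC hker).eq
      have e : (y : G) = z * k := congrArg Subtype.val hy'
      rw [e, mul_assoc, ← mul_assoc (k : G), hc.eq, mul_assoc, ← mul_assoc z z, hzz, one_mul] at hy
      exact hy
    by_cases hk1 : (k : G) = 1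
    · left
      rw [congrArg Subtype.val hy', Subgroup.coe_mul, hk1, mul_one]
    · right
      have hk2 : orderOf (k : G) = 2 := orderOf_eq_prime (by rw [pow_two, hkk]) hk1
      have := h.invol_point (toImg_eq_one.mp hker a (mem_two.mp ht).1) (mem_two.mp ht).1 hk2 ht2
        (congrArg Subtype.val (hcentral k τC hker).eq)
      rw [congrArg Subtype.val hy', Subgroup.coe_mul, this]
  -- involutions with fixed points moving `a` to `b`
  have hnotfix : ∀ s : C, Fixd Ω (s : G) → (s : G) ≠ τ →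
      ∀ x : {x : Ω // τ • x = x}, φ s • x ≠ x := fun s hs hne x e =>
    hne (h.invol_point (congrArg Subtype.val e) x.2 hs.1 ht2
      (Subgroup.mem_centralizer_singleton_iff.mp s.2))
  have hfix : ∀ s : G, Fixd Ω s → s • a = b → ∃ hs : s ∈ C, s ≠ τ ∧ s • b = a := by
    intro s hs hsa
    have hss : s * s = 1 := by rw [← pow_two, ← hs.1, pow_orderOf_eq_one]
    have hsb : s • b = a := by rw [← hsa, ← mul_smul, hss, one_smul]
    have e : s * τ * s⁻¹ = τ := by
      refine h.invol_unique hab (mem_two.mpr ⟨?_, ?_⟩) ht ?_ ht2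
      · rw [inv_eq_of_mul_eq_one_right hss, mul_smul, mul_smul, hsa, (mem_two.mp ht).2, hsb]
      · rw [inv_eq_of_mul_eq_one_right hss, mul_smul, mul_smul, hsb, (mem_two.mp ht).1, hsa]
      · rw [show s * τ * s⁻¹ = MulAut.conj s τ from rfl, MulEquiv.orderOf_eq, ht2]
    exact ⟨Subgroup.mem_centralizer_singleton_iff.mpr (mul_inv_eq_iff_eq_mul.mp e),
      fun e' => hab (by rw [← hsa, e', (mem_two.mp ht).1]), hsb⟩
  have hmul_self : ∀ s : G, Fixd Ω s → s * s = 1 := fun s hs => by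
    rw [← pow_two, ← hs.1, pow_orderOf_eq_one]
  -- every such involution has a conjugate `z * τ`
  have hconj : ∀ s : C, Fixd Ω (s : G) → (s : G) ≠ τ → ∃ c : C,
      φ (c * s * c⁻¹) = φ zC ∧ (c : G) * s * (c : G)⁻¹ = z * τ := by
    intro s hs hne
    have hss : φ s * φ s = 1 := by
      rw [← map_mul, show s * s = 1 from Subtype.ext (hmul_self _ hs), map_one]
    obtain ⟨y, hy⟩ := isConj_iff.mp
      (hd.fpf_isConj hfeven hss hzz' (hnotfix s hs hne) hzYfree)
    obtain ⟨c, rfl⟩ := toImg_surj (Ω := Ω) τ y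
    have hφc : φ (c * s * c⁻¹) = φ zC := by rw [map_mul, map_mul, map_inv, hy]
    refine ⟨c, hφc, ?_⟩
    have hF : Fixd Ω ((c : G) * s * (c : G)⁻¹) := fixd_conj hs _
    rcases hlift (c * s * c⁻¹) (hmul_self _ hF) hφc with e | e
    · obtain ⟨-, x, hx⟩ := hF
      refine absurd ?_ (hzfree x)
      rw [← e]
      exact hx
    · exact e
  have hcount := h.count hn hab ht ht2
  set s1 := Nat.card {s : G // Fixd Ω s ∧ s • a = b}
  have hzτ : Fixd Ω (z * τ) := by
    have hs1 : 0 < s1 := Nat.pos_of_ne_zero fun e => by rw [e, mul_zero, add_zero] at hcount; omega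
    obtain ⟨⟨σ, hσ, hσa⟩⟩ := (Nat.card_pos_iff.mp hs1).1
    obtain ⟨hσC, hσne, -⟩ := hfix σ hσ hσa
    obtain ⟨c, -, e⟩ := hconj ⟨σ, hσC⟩ hσ hσne
    exact e ▸ fixd_conj hσ _
  -- `2 * s1 = f - 2`
  have hs1f : 2 * s1 = fx Ω τ - 2 := by
    refine Eq.trans ?_ (hd.card_fpf_swap hfeven hab')
    refine congrArg (2 * ·) (Nat.card_eq_of_bijective
      (fun s : {s : G // Fixd Ω s ∧ s • a = b} =>
        (⟨φ ⟨s.1, (hfix _ s.2.1 s.2.2).fst⟩, Subtype.ext s.2.2,
          Subtype.ext (hfix _ s.2.1 s.2.2).snd.2,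
          hnotfix ⟨s.1, (hfix _ s.2.1 s.2.2).fst⟩ s.2.1 (hfix _ s.2.1 s.2.2).snd.1⟩ :
          {y : img Ω τ // y • a' = b' ∧ y • b' = a' ∧ ∀ x, y • x ≠ x})) ⟨?_, ?_⟩)
    · intro s t e
      obtain ⟨hsC, hsne, -⟩ := hfix _ s.2.1 s.2.2
      obtain ⟨htC, htne, -⟩ := hfix _ t.2.1 t.2.2
      have e' : φ ⟨s.1, hsC⟩ = φ ⟨t.1, htC⟩ := congrArg Subtype.val e
      obtain ⟨c, hφc, hc⟩ := hconj ⟨s.1, hsC⟩ s.2.1 hsne
      have hφt : φ (c * ⟨t.1, htC⟩ * c⁻¹) = φ zC := by
        rw [← hφc, map_mul, map_mul, ← e', map_mul, map_mul]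
      have hF : Fixd Ω ((c : G) * t.1 * (c : G)⁻¹) := fixd_conj t.2.1 _
      rcases hlift (c * ⟨t.1, htC⟩ * c⁻¹) (hmul_self _ hF) hφt with e1 | e1
      · obtain ⟨-, x, hx⟩ := hF
        exact absurd (show z • x = x by rw [← e1]; exact hx) (hzfree x)
      · have e2 : (c : G) * s.1 * (c : G)⁻¹ = (c : G) * t.1 * (c : G)⁻¹ := hc.trans e1.symm
        exact Subtype.ext (mul_left_cancel (mul_right_cancel e2))
    · rintro ⟨y, hy1, hy2, hy3⟩
      have hzτC : z * τ ∈ C := C.mul_mem hzC hτC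
      have hφzτ : φ ⟨z * τ, hzτC⟩ = φ zC := by
        rw [show (⟨z * τ, hzτC⟩ : C) = zC * τC from rfl, map_mul, hφτ, mul_one]
      have hyy : y * y = 1 := hd.swap hab' y hy1 hy2
      obtain ⟨e, he⟩ := isConj_iff.mp (hd.fpf_isConj hfeven hzz' hyy hzYfree hy3)
      obtain ⟨c, rfl⟩ := toImg_surj (Ω := Ω) τ e
      have hφs : φ (c * ⟨z * τ, hzτC⟩ * c⁻¹) = y := by rw [map_mul, map_mul, map_inv, hφzτ, he]
      have hsa : ((c : G) * (z * τ) * (c : G)⁻¹) • a = b := by
        have := hy1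
        rw [← hφs] at this
        exact congrArg Subtype.val this
      exact ⟨⟨_, fixd_conj hzτ _, hsa⟩, Subtype.ext hφs⟩
  -- signs, or the structure of the Sylow subgroup
  rcases Nat.even_or_odd s1 with hs | hs
  · obtain ⟨k, hk⟩ := hs
    have hf : fx Ω τ = 4 * k + 2 := by omega
    have hN : Nat.card Ω = 4 * (k + (2 * k + 1) * (4 * k + 1) * k) + 2 := by
      rw [hcount, hk, hf, show 4 * k + 2 - 1 = 4 * k + 1 by omega]
      ring
    have h0 : fx Ω z = 0 := by
      haveI : IsEmpty {x : Ω // z • x = x} := ⟨fun x => hzfree x.1 x.2⟩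
      exact Nat.card_of_isEmpty
    have hsz : sgn Ω z = -1 := by
      rw [sgn_invol hzz, h0, Nat.sub_zero]
      exact Odd.neg_one_pow (Nat.odd_iff.mpr (by omega))
    obtain ⟨c, hc⟩ := isConj_iff.mp (h.fixd_isConj hn hab ht ht2 hzτ)
    have e := congrArg (sgn Ω) hc
    rw [map_mul, map_mul, map_inv, mul_right_comm, mul_inv_cancel, one_mul, map_mul, hsz] at e
    have e' := mul_right_cancel ((one_mul _).trans e)
    exact absurd e' (by decide)
  -- `4 ∣ f`
  obtain ⟨k, hk⟩ := hs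
  have hf : fx Ω τ = 4 * (k + 1) := by omega
  have hvf2 : 2 ≤ vf := (Nat.prime_two.pow_dvd_iff_le_factorization (by omega)).mp
    (show 2 ^ 2 ∣ fx Ω τ from ⟨k + 1, by rw [hf]; ring⟩)
  have hvn : vf < (Nat.card Ω).factorization 2 := by
    have e : Nat.card Ω = fx Ω τ * (2 * (1 + (4 * (k + 1) - 1) * k + 2 * k + 1)) := by
      rw [hcount, hk, hf, show 4 * (k + 1) - 1 = 4 * k + 3 by omega]
      ring
    rw [e, Nat.factorization_mul (by omega) (by omega), Finsupp.add_apply]
    exact Nat.lt_add_of_pos_right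
      (Nat.prime_two.factorization_pos_of_dvd (by omega) (dvd_mul_right _ _))
  -- the image of `g` is the involution fixing `a` and `b`
  set w := (Nat.card T).factorization 2
  set gC : C := ⟨g, hgC⟩
  set ψ : T →* img Ω τ := φ.comp (Subgroup.inclusion (h.two_le_cent hab ht))
  have hrange : ψ.range = Zass.two (G := img Ω τ) a' b' := by
    ext y
    constructor
    · rintro ⟨x, rfl⟩
      exact mem_two.mpr ⟨Subtype.ext (mem_two.mp x.2).1, Subtype.ext (mem_two.mp x.2).2⟩
    · intro hy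
      obtain ⟨c, rfl⟩ := toImg_surj (Ω := Ω) τ y
      exact ⟨⟨c.1, mem_two.mpr ⟨congrArg Subtype.val (mem_two.mp hy).1,
        congrArg Subtype.val (mem_two.mp hy).2⟩⟩, rfl⟩
  have hgψ : φ gC = ψ ⟨g, hgT⟩ := rfl
  have hgmem : φ gC ∈ Zass.two (G := img Ω τ) a' b' := hrange ▸ ⟨⟨g, hgT⟩, rfl⟩
  have hTbar : Nat.card (Zass.two (G := img Ω τ) a' b') = 2 * (2 * k + 1) := by
    rw [hd.card_two hab']
    show fx Ω τ - 2 = _
    omega
  have hg1 : φ gC ≠ 1 := by
    intro e
    have hker : Subgroup.zpowers (⟨g, hgT⟩ : T) ≤ ψ.ker :=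
      Subgroup.zpowers_le.mpr (MonoidHom.mem_ker.mpr (hgψ ▸ e))
    have h1 := Subgroup.card_dvd_of_le hker
    rw [Nat.card_zpowers, Subgroup.orderOf_mk, hg] at h1
    have h2 := Subgroup.card_mul_index ψ.ker
    rw [Subgroup.index_ker, hrange, hTbar] at h2
    have h3 : 2 ^ (w + 1) ∣ Nat.card T := by
      rw [pow_succ, ← h2]
      exact Nat.mul_dvd_mul h1 (dvd_mul_right _ _)
    have := (Nat.prime_two.pow_dvd_iff_le_factorization Nat.card_pos.ne').mp h3
    omega
  have hgg : φ gC * φ gC = 1 := by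
    have h1 : orderOf (φ gC) ∣ 2 ^ w := by
      rw [← hg, ← Subgroup.orderOf_mk g hgC]
      exact orderOf_map_dvd _ _
    have h2 : orderOf (φ gC) ∣ 2 * (2 * k + 1) := hTbar ▸ Subgroup.orderOf_dvd_natCard _ hgmem
    obtain ⟨i, -, hi⟩ := (Nat.dvd_prime_pow Nat.prime_two).mp h1
    have hi1 : i ≤ 1 := by
      by_contra hlt
      rw [hi] at h2
      have h3 : 2 ^ 2 ∣ 2 * (2 * k + 1) := (pow_dvd_pow 2 (show 2 ≤ i by omega)).trans h2
      omega
    rw [← pow_two]
    exact orderOf_dvd_iff_pow_eq_one.mp (by rw [hi]; exact pow_dvd_pow 2 hi1)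
  have hg2 : orderOf (φ gC) = 2 := orderOf_eq_prime (by rw [pow_two, hgg]) hg1
  have hw : 2 ≤ w := by
    by_contra hlt
    have hle : orderOf g ≤ 2 := by
      rw [hg]
      exact (Nat.pow_le_pow_right (by omega) (show w ≤ 1 by omega)).trans (by norm_num)
    have hge : 0 < orderOf g := orderOf_pos g
    rcases (show orderOf g = 1 ∨ orderOf g = 2 by omega) with e | e
    · exact hg1 (by rw [show gC = 1 from Subtype.ext (orderOf_eq_one_iff.mp e), map_one])
    · exact hg1 (by rw [show gC = τC from Subtype.ext (h.invol_unique hab hgT ht e ht2), hφτ])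
  have hgτ : g ^ 2 ^ (w - 1) = τ := by
    refine h.invol_unique hab (Subgroup.pow_mem _ hgT _) ht ?_ ht2
    rw [orderOf_pow' _ (by positivity), hg, Nat.gcd_eq_right (pow_dvd_pow 2 (by omega)),
      Nat.pow_div (by omega) (by omega), show w - (w - 1) = 1 by omega, pow_one]
  -- `g` normalises the image of `⟨α⟩`
  set αC : C := ⟨α, hαC⟩
  have hzα : φ zC = φ αC ^ 2 ^ (vf - 1) := by rw [← map_pow]; rfl
  have hαfix : ∀ i : ℕ, φ αC ^ i • a' = a' → α ^ i = 1 := fun i e => by
    rw [← map_pow] at e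
    exact hfree i a (congrArg Subtype.val e)
  obtain ⟨i0, j0, hij⟩ := hPgen _ (P.mul_mem (P.mul_mem hgP hαP) (P.inv_mem hgP))
  have hga : φ gC • a' = a' := (mem_two.mp hgmem).1
  have hgb : φ gC • b' = b' := (mem_two.mp hgmem).2
  have hinvg : (φ gC)⁻¹ = φ gC := inv_eq_of_mul_eq_one_right hgg
  have hconjα : φ gC * φ αC * (φ gC)⁻¹ = φ αC ^ i0 * φ gC ^ j0 := by
    rw [← map_inv, ← map_mul, ← map_mul, ← map_pow, ← map_pow, ← map_mul]
    exact congrArg _ (Subtype.ext hij)
  have hgz : φ gC * φ zC = φ zC * φ gC := by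
    have hj : φ gC ^ j0 = 1 := by
      rcases Nat.even_or_odd j0 with ⟨m, hm⟩ | ⟨m, hm⟩
      · rw [hm, ← two_mul, pow_mul, pow_two, hgg, one_pow]
      · exfalso
        rw [hm, pow_succ, pow_mul, pow_two, hgg, one_pow, one_mul, hinvg] at hconjα
        have e : φ gC * φ αC = φ αC ^ i0 := mul_right_cancel hconjα
        have hgpow : ∃ i : ℕ, φ gC = φ αC ^ i :=
          mem_powers_iff_mem_zpowers.mpr (eq_mul_inv_of_mul_eq e ▸
            Subgroup.mul_mem _ (Subgroup.pow_mem _ (Subgroup.mem_zpowers _) _)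
              (Subgroup.inv_mem _ (Subgroup.mem_zpowers _))) |>.imp fun i hi => hi.symm
        obtain ⟨i, hi⟩ := hgpow
        have := hαfix i (hi ▸ hga)
        exact hg1 (by rw [hi, ← map_pow, show αC ^ i = 1 from Subtype.ext this, map_one])
    rw [hj, mul_one] at hconjα
    have e : φ gC * φ zC * (φ gC)⁻¹ = φ zC ^ i0 := by
      rw [hzα, ← conj_pow, hconjα, ← pow_mul, ← pow_mul, mul_comm]
    rcases Nat.even_or_odd i0 with ⟨m, hm⟩ | ⟨m, hm⟩
    · rw [hm, ← two_mul, pow_mul, pow_two, hzz', one_pow, conj_eq_one_iff] at e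
      exact absurd (by rw [e]; exact one_smul _ a') (hzYfree a')
    · rw [hm, pow_succ, pow_mul, pow_two, hzz', one_pow, one_mul] at e
      exact mul_inv_eq_iff_eq_mul.mp e
  -- the points `a`, `b`, `d`
  have hzab : φ zC • a' = b' := by
    by_contra hne
    refine hg1 (hd.free hab' (hzYfree a') hne hgmem ?_)
    rw [← mul_smul, hgz, mul_smul, hga]
  have hzba : φ zC • b' = a' := by rw [← hzab, ← mul_smul, hzz', one_smul]
  set d := φ αC • a' with hddef
  have hda : d ≠ a' := fun e => hz1 (by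
    rw [hzdef]
    have := hαfix 1 (by rw [pow_one]; exact e)
    rw [pow_one] at this
    rw [this, one_pow])
  have hdb : d ≠ b' := fun e => by
    have := hαfix (2 ^ (vf - 1) + 1) (by
      rw [pow_succ, mul_smul, ← hddef, e, ← hzα, hzba])
    have hdvd := orderOf_dvd_of_pow_eq_one this
    rw [hα] at hdvd
    have h2 : 2 ∣ 2 ^ (vf - 1) + 1 := (dvd_pow_self 2 (by omega : vf ≠ 0)).trans hdvd
    have h3 : 2 ∣ 2 ^ (vf - 1) := dvd_pow_self 2 (by omega)
    omega
  have hzd_a : φ zC • d ≠ a' := fun e => hdb (by rw [← hzab, ← e, ← mul_smul, hzz', one_smul])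
  obtain ⟨y, hya, hyd, hyb⟩ := hd.three hda.symm hab' hdb hda (hzYfree d).symm hzd_a.symm
  have hyy : y * y = 1 := hd.swap hda.symm y hya hyd
  have hyzd : y • φ zC • d = b' := by rw [← hyb, ← mul_smul, hyy, one_smul]
  have hyz : y * φ zC = φ zC * y := by
    refine (inv_mul_eq_one.mp (hd.triv hda.symm hab' hdb _ ?_ ?_ ?_)).symm
    · rw [mul_smul, mul_smul y, hzab, hyb, inv_smul_eq_iff, mul_smul, hya]
    · rw [mul_smul, mul_smul y, hyzd, inv_smul_eq_iff, mul_smul, hyd, hzab]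
    · rw [mul_smul, mul_smul y, hzba, hya, inv_smul_eq_iff, mul_smul, hyb, ← mul_smul, hzz',
        one_smul]
  have hzαc : φ zC * φ αC = φ αC * φ zC := by
    rw [hzα]
    exact (Commute.refl (φ αC)).pow_left _
  set x := (φ αC)⁻¹ * y with hxdef
  have hxz : x * φ zC = φ zC * x := by
    rw [hxdef, mul_assoc, hyz, ← mul_assoc, ← mul_assoc,
      ((show Commute (φ zC) (φ αC) from hzαc).inv_right).eq]
  have hxa : x • a' = a' := by rw [hxdef, mul_smul, hya, inv_smul_eq_iff]
  have hxb : x • b' = b' := by rw [← hzab, ← mul_smul, hxz, mul_smul, hxa]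
  have hinvert : ∀ t : img Ω τ, t • a' = a' → t • b' = b' → φ zC * t * φ zC = t⁻¹ := by
    intro t t1 t2
    have := hd.swap hab' (φ zC * t) (by rw [mul_smul, t1, hzab]) (by rw [mul_smul, t2, hzba])
    rw [← mul_assoc] at this
    exact eq_inv_of_mul_eq_one_left this
  have hxx : x * x = 1 := by
    have := hinvert x hxa hxb
    rw [← hxz, mul_assoc, hzz', mul_one] at this
    exact mul_eq_one_iff_eq_inv.mpr this
  have hxg : x = φ gC := by
    have hx1 : x ≠ 1 := fun e => by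
      have hy' : y = φ αC := (inv_mul_eq_one.mp e).symm
      have := hαfix 2 (by rw [pow_two, ← hy', hyy, one_smul])
      have h2 := orderOf_le_of_pow_eq_one (by omega) this
      rw [hα] at h2
      have : 2 ^ 2 ≤ 2 ^ vf := Nat.pow_le_pow_right (by omega) hvf2
      omega
    exact hY.invol_unique hab' (mem_two.mpr ⟨hxa, hxb⟩) hgmem
      (orderOf_eq_prime (by rw [pow_two, hxx]) hx1) hg2
  have hy_eq : φ αC * φ gC = y := by rw [← hxg, hxdef, mul_inv_cancel_left]
  have hinv : φ gC * φ αC * φ gC = (φ αC)⁻¹ := by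
    refine eq_inv_of_mul_eq_one_right ?_
    rw [← mul_assoc, ← mul_assoc, hy_eq, mul_assoc, hy_eq, hyy]
  -- an element normalising `P`
  have hPlt : P < S := lt_of_le_of_ne hPS fun e => by
    rw [e, hSc] at hPc
    have := Nat.pow_right_injective (le_refl 2) hPc
    omega
  obtain ⟨s, hsS, hsP, hsnorm⟩ : ∃ s ∈ S, s ∉ P ∧ ∀ x, x ∈ P ↔ s * x * s⁻¹ ∈ P := by
    haveI : Group.IsNilpotent S := hS.isNilpotent
    have hnc := Group.normalizerCondition_of_isNilpotent (G := S) (P.subgroupOf S) (lt_top_iff_ne_top.mpr fun e =>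
      absurd (Subgroup.subgroupOf_eq_top.mp e) (not_le_of_gt hPlt))
    obtain ⟨s, hs1, hs2⟩ := SetLike.exists_of_lt hnc
    refine ⟨s, s.2, hs2, fun x => ?_⟩
    rw [Subgroup.mem_normalizer_iff] at hs1
    constructor
    · intro hx
      exact (hs1 ⟨x, hPS hx⟩).mp hx
    · intro hx
      have hxS : x ∈ S := by
        have := S.mul_mem (S.mul_mem (S.inv_mem s.2) (hPS hx)) s.2
        rwa [show (s : G)⁻¹ * ((s : G) * x * (s : G)⁻¹) * s = x by group] at this
      exact (hs1 ⟨x, hxS⟩).mpr hx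
  set u := s * τ * s⁻¹ with hudef
  have hτP : τ ∈ P := hgτ ▸ P.pow_mem hgP _
  have huP : u ∈ P := (hsnorm τ).mp hτP
  have hucomm : ∀ x ∈ P, u * x = x * u := by
    intro x hx
    have hx' : s⁻¹ * x * s ∈ P := (hsnorm _).mpr (by
      rw [show s * (s⁻¹ * x * s) * s⁻¹ = x by group]; exact hx)
    have hc := Subgroup.mem_centralizer_singleton_iff.mp (hPC hx')
    calc u * x = s * (τ * (s⁻¹ * x * s)) * s⁻¹ := by rw [hudef]; group
      _ = s * ((s⁻¹ * x * s) * τ) * s⁻¹ := by rw [hc]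
      _ = x * u := by rw [hudef]; group
  have huF : Fixd Ω u := fixd_conj ⟨ht2, a, (mem_two.mp ht).1⟩ s
  have hune : u ≠ τ := fun e =>
    hsP (hSC ⟨hsS, Subgroup.mem_centralizer_singleton_iff.mpr (mul_inv_eq_iff_eq_mul.mp e)⟩)
  set uC : C := ⟨u, hPC huP⟩
  have huu : φ uC * φ uC = 1 := by
    rw [← map_mul, show uC * uC = 1 from Subtype.ext (hmul_self u huF), map_one]
  have hufree := hnotfix uC huF hune
  have hug : φ uC * φ gC = φ gC * φ uC := by
    rw [← map_mul, ← map_mul]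
    exact congrArg _ (Subtype.ext (hucomm g hgP))
  have hua' : φ uC * φ αC = φ αC * φ uC := by
    rw [← map_mul, ← map_mul]
    exact congrArg _ (Subtype.ext (hucomm α hαP))
  have huab : φ uC • a' = b' := by
    by_contra hne
    refine hg1 (hd.free hab' (hufree a') hne hgmem ?_)
    rw [← mul_smul, ← hug, mul_smul, hga]
  have huba : φ uC • b' = a' := by rw [← huab, ← mul_smul, huu, one_smul]
  have hux : φ uC * φ zC = 1 := by
    have e1 : (φ uC * φ zC) • a' = a' := by rw [mul_smul, hzab, huba]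
    have e2 : (φ uC * φ zC) • b' = b' := by rw [mul_smul, hzba, huab]
    refine hd.triv hab' hda.symm hdb.symm _ e1 e2 ?_
    rw [hddef, ← mul_smul,
      show φ uC * φ zC * φ αC = φ αC * (φ uC * φ zC) by
        rw [mul_assoc, hzαc, ← mul_assoc, hua', mul_assoc], mul_smul, e1]
  have huz : u = z * τ := by
    have e : φ uC = φ zC := by
      rw [eq_inv_of_mul_eq_one_left hux, inv_eq_of_mul_eq_one_right hzz']
    rcases hlift uC (hmul_self u huF) e with e | e
    · obtain ⟨-, x, hx⟩ := huF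
      exact absurd (show z • x = x by rw [← e]; exact hx) (hzfree x)
    · exact e
  -- the final contradiction
  obtain ⟨i, j, hij2⟩ := hPgen _ ((hsnorm g).mp hgP)
  have hpow : (α ^ i * g ^ j) ^ 2 ^ (w - 1) = z * τ := by
    rw [← hij2, conj_pow, hgτ, ← huz]
  rcases Nat.even_or_odd j with ⟨m, hm⟩ | ⟨m, hm⟩
  · have hker : φ (gC ^ j) = 1 := by
      rw [map_pow, hm, ← two_mul, pow_mul, pow_two, hgg, one_pow]
    have hc : Commute (α ^ i) (g ^ j) :=
      (congrArg Subtype.val (hcentral (gC ^ j) (αC ^ i) hker).eq).symm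
    rw [hc.mul_pow, ← pow_mul g, hm, ← two_mul, mul_comm 2 m, mul_assoc, ← pow_succ',
      show w - 1 + 1 = w by omega, mul_comm m, pow_mul g, ← hg, pow_orderOf_eq_one, one_pow,
      mul_one, ← pow_mul] at hpow
    have hτα : τ ∈ Subgroup.zpowers α := by
      rw [eq_inv_mul_of_mul_eq hpow.symm]
      exact Subgroup.mul_mem _
        (Subgroup.inv_mem _ (Subgroup.pow_mem _ (Subgroup.mem_zpowers _) _))
        (Subgroup.pow_mem _ (Subgroup.mem_zpowers _) _)
    obtain ⟨l, hl⟩ := mem_powers_iff_mem_zpowers.mpr hτα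
    have hl' : α ^ l = τ := hl
    exact hτ1 (hl' ▸ hfree l a (hl'.symm ▸ (mem_two.mp ht).1))
  · have e : φ ((αC ^ i * gC ^ j) ^ 2 ^ (w - 1)) = φ zC := by
      rw [show (αC ^ i * gC ^ j) ^ 2 ^ (w - 1) = zC * τC from Subtype.ext hpow, map_mul, hφτ,
        mul_one]
    have hci : φ gC * φ αC ^ i * φ gC = (φ αC ^ i)⁻¹ := by
      have := conj_pow (i := i) (a := φ gC) (b := φ αC)
      rw [hinvg, hinv, inv_pow] at this
      exact this.symm
    have hx2 : (φ αC ^ i * φ gC) ^ 2 = 1 := by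
      rw [pow_two, mul_assoc, ← mul_assoc (φ gC), hci, mul_inv_cancel]
    have hgj : φ gC ^ j = φ gC := by rw [hm, pow_succ, pow_mul, pow_two, hgg, one_pow, one_mul]
    rw [map_pow, map_mul, map_pow, map_pow, hgj, show w - 1 = w - 2 + 1 by omega, pow_succ',
      pow_mul, hx2, one_pow] at e
    exact hzYfree a' (by rw [← e, one_smul])

end Cfsg.Agent.CycZ
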